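import Mathlib.Algebra.BigOperators.Ring.Finset
import Mathlib.Algebra.Order.BigOperators.Ring.Finset
import Mathlib.Data.Int.GCD
import Mathlib.Data.Fintype.Sets
import Mathlib.Data.Fintype.BigOperators
import Mathlib.Tactic

/-! The counting argument for the rows of a table with almost constant Gram matrix. -/

set_option autoImplicit false

namespace Cfsg.Agent.PermGp.PrimeSucc

/-- Two integers squares summing to two. -/
theorem exists_pair_of_sum_sq_two {ι : Type*} [Fintype ι] [DecidableEq ι] (D : ι → ℤ) (deg : ι → ℕ)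
    (hpos : ∀ χ, 0 < deg χ) (h2 : ∑ χ, D χ * D χ = 2) (h0 : ∑ χ, D χ * (deg χ : ℤ) = 0) :
    ∃ P M, P ≠ M ∧ deg P = deg M ∧ ∀ χ, D χ = (if χ = P then 1 else 0) - (if χ = M then 1 else 0) := by
  have hle : ∀ χ, D χ = 0 ∨ D χ = 1 ∨ D χ = -1 := fun χ => by
    have h : D χ * D χ ≤ 2 := h2 ▸ Finset.single_le_sum (f := fun x => D x * D x)
      (fun x _ => mul_self_nonneg _) (Finset.mem_univ χ)
    have h1 : D χ ≤ 1 := by nlinarith
    have h3 : -1 ≤ D χ := by nlinarith
    omega
  set S := Finset.univ.filter fun χ => D χ ≠ 0 with hS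
  have hScard : S.card = 2 := by
    have : ∑ χ, D χ * D χ = ∑ χ ∈ S, (1 : ℤ) := by
      rw [hS, Finset.sum_filter]
      refine Finset.sum_congr rfl fun χ _ => ?_
      rcases hle χ with h | h | h <;> simp [h]
    rw [h2] at this
    simp at this
    omega
  obtain ⟨a, b, hab, hSab⟩ := Finset.card_eq_two.mp hScard
  have hsum : D a * deg a + D b * deg b = 0 := by
    rw [← h0, ← Finset.sum_pair (f := fun χ => D χ * (deg χ : ℤ)) hab, ← hSab]
    refine Finset.sum_subset (Finset.subset_univ _) fun χ _ hχ => ?_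
    have : D χ = 0 := by by_contra h; exact hχ (Finset.mem_filter.mpr ⟨Finset.mem_univ _, h⟩)
    rw [this, zero_mul]
  have hout : ∀ χ, χ ≠ a → χ ≠ b → D χ = 0 := fun χ h1 h2 => by
    by_contra h
    have : χ ∈ S := Finset.mem_filter.mpr ⟨Finset.mem_univ _, h⟩
    rw [hSab] at this; simp [h1, h2] at this
  have hab' : ∀ x, x ∈ S → D x ≠ 0 := fun x hx => (Finset.mem_filter.mp hx).2
  have ha := hab' a (by rw [hSab]; simp)
  have hb := hab' b (by rw [hSab]; simp)
  have hpa := hpos a
  have hpb := hpos b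
  rcases (hle a).resolve_left ha with h | h <;> rcases (hle b).resolve_left hb with h' | h' <;>
    rw [h, h'] at hsum
  · omega
  · refine ⟨a, b, hab, by omega, fun χ => ?_⟩
    by_cases h1 : χ = a
    · subst h1; simp [h, hab]
    by_cases h2 : χ = b
    · subst h2; simp [h', hab.symm]
    simp [hout χ h1 h2, h1, h2]
  · refine ⟨b, a, hab.symm, by omega, fun χ => ?_⟩
    by_cases h1 : χ = a
    · subst h1; simp [h, hab]
    by_cases h2 : χ = b
    · subst h2; simp [h', hab.symm]
    simp [hout χ h1 h2, h1, h2]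
  · omega

/-- Rows with Gram matrix `d + δ`: all differ in a star. -/
theorem exists_star {ι Q : Type*} [Fintype ι] [DecidableEq ι] [Fintype Q] [DecidableEq Q]
    (v : Q → ι → ℤ) (deg : ι → ℕ) (d : ℤ) (hpos : ∀ χ, 0 < deg χ) (hQ : 4 ≤ Fintype.card Q)
    (gram : ∀ q q', ∑ χ, v q χ * v q' χ = d + if q = q' then 1 else 0)
    (hdeg : ∀ q q', ∑ χ, v q χ * (deg χ : ℤ) = ∑ χ, v q' χ * (deg χ : ℤ)) :
    ∃ (ε : ℤ) (e : Q → ι) (m : ι → ℤ), (ε = 1 ∨ ε = -1) ∧ Function.Injective e ∧
      (∀ q q', deg (e q) = deg (e q')) ∧ ∀ q χ, v q χ = m χ + if χ = e q then ε else 0 := by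
  obtain ⟨q₀⟩ : Nonempty Q := Fintype.card_pos_iff.mp (by omega)
  have hD : ∀ q, q ≠ q₀ → ∃ P M, P ≠ M ∧ deg P = deg M ∧
      ∀ χ, v q χ - v q₀ χ = (if χ = P then 1 else 0) - (if χ = M then 1 else 0) := fun q hq => by
    refine exists_pair_of_sum_sq_two (fun χ => v q χ - v q₀ χ) deg hpos ?_ ?_
    · simp only [mul_sub, sub_mul, Finset.sum_sub_distrib, gram, if_true, if_neg hq,
        if_neg (Ne.symm hq)]
      ring
    · simp only [sub_mul, Finset.sum_sub_distrib, hdeg q q₀, sub_self]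
  choose P M hPM hdegPM hv using hD
  have hpair : ∀ q q' (hq : q ≠ q₀) (hq' : q' ≠ q₀), q ≠ q' →
      (P q hq = P q' hq' ∧ M q hq ≠ M q' hq') ∨ (P q hq ≠ P q' hq' ∧ M q hq = M q' hq') := by
    intro q q' hq hq' hne
    have h1 : ∑ χ, (v q χ - v q₀ χ) * (v q' χ - v q₀ χ) = 1 := by
      simp only [mul_sub, sub_mul, Finset.sum_sub_distrib, gram, if_true, if_neg hq,
        if_neg (Ne.symm hq'), if_neg hne]
      ring
    simp only [hv q hq, hv q' hq'] at h1
    simp only [sub_mul, mul_sub, Finset.sum_sub_distrib, ite_mul, one_mul, zero_mul,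
      Finset.sum_ite_eq', Finset.mem_univ, if_true] at h1
    have := hPM q hq
    have := hPM q' hq'
    split_ifs at h1 <;> simp_all
  have hcase : (∀ q q' hq hq', P q hq = P q' hq') ∨ (∀ q q' hq hq', M q hq = M q' hq') := by
    by_contra! hcon
    obtain ⟨⟨a, b, ha, hb, hab⟩, ⟨c, e, hc, he, hce⟩⟩ := hcon
    have hne : a ≠ b := fun h => hab (by subst h; rfl)
    have hne' : c ≠ e := fun h => hce (by subst h; rfl)
    have hMab : M a ha = M b hb := ((hpair a b ha hb hne).resolve_left fun h => hab h.1).2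
    have hPce : P c hc = P e he := ((hpair c e hc he hne').resolve_right fun h => hce h.2).1
    -- every further index shares the sink of `a`
    have hall : ∀ x (hx : x ≠ q₀), M x hx = M a ha := by
      intro x hx
      rcases eq_or_ne x a with rfl | hxa
      · rfl
      rcases eq_or_ne x b with rfl | hxb
      · exact hMab.symm
      rcases hpair x a hx ha hxa with ⟨h1, h2⟩ | ⟨-, h2⟩
      · rcases hpair x b hx hb hxb with ⟨h3, -⟩ | ⟨-, h4⟩
        · exact absurd (h1.symm.trans h3) hab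
        · exact absurd (h4.trans hMab.symm) h2
      · exact h2
    exact hce ((hall c hc).trans (hall e he).symm)
  obtain ⟨q₁, hq₁⟩ := Fintype.exists_ne_of_one_lt_card (by omega) q₀
  rcases hcase with hP | hM
  · refine ⟨-1, fun q => if hq : q = q₀ then P q₁ hq₁ else M q hq,
      fun χ => v q₀ χ + if χ = P q₁ hq₁ then 1 else 0, Or.inr rfl, ?_, ?_, ?_⟩
    · intro q q' h
      by_cases hq : q = q₀ <;> by_cases hq' : q' = q₀
      · rw [hq, hq']
      · simp only [hq, hq', dite_true, dite_false] at h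
        exact absurd ((hP q' q₁ hq' hq₁).trans h) (hPM q' hq')
      · simp only [hq, hq', dite_true, dite_false] at h
        exact absurd ((hP q q₁ hq hq₁).trans h.symm) (hPM q hq)
      · simp only [hq, hq', dite_false] at h
        by_contra hne
        rcases hpair q q' hq hq' hne with ⟨-, h2⟩ | ⟨h2, -⟩
        · exact h2 h
        · exact h2 (hP q q' hq hq')
    · have key : ∀ q, deg (if hq : q = q₀ then P q₁ hq₁ else M q hq) = deg (P q₁ hq₁) := fun q => by
        by_cases hq : q = q₀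
        · simp only [hq, dite_true]
        · simp only [hq, dite_false]; rw [← hdegPM q hq, hP q q₁ hq hq₁]
      intro q q'
      exact (key q).trans (key q').symm
    · intro q χ
      by_cases hq : q = q₀
      · simp only [hq, dite_true]; split_ifs <;> ring
      · simp only [hq, dite_false]
        have := hv q hq χ
        rw [hP q q₁ hq hq₁] at this
        split_ifs at this ⊢ <;> linarith
  · refine ⟨1, fun q => if hq : q = q₀ then M q₁ hq₁ else P q hq,
      fun χ => v q₀ χ - if χ = M q₁ hq₁ then 1 else 0, Or.inl rfl, ?_, ?_, ?_⟩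
    · intro q q' h
      by_cases hq : q = q₀ <;> by_cases hq' : q' = q₀
      · rw [hq, hq']
      · simp only [hq, hq', dite_true, dite_false] at h
        exact absurd (h.symm.trans (hM q₁ q' hq₁ hq')) (hPM q' hq')
      · simp only [hq, hq', dite_true, dite_false] at h
        exact absurd (h.trans (hM q₁ q hq₁ hq)) (hPM q hq)
      · simp only [hq, hq', dite_false] at h
        by_contra hne
        rcases hpair q q' hq hq' hne with ⟨-, h2⟩ | ⟨h2, -⟩
        · exact h2 (hM q q' hq hq')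
        · exact h2 h
    · have key : ∀ q, deg (if hq : q = q₀ then M q₁ hq₁ else P q hq) = deg (M q₁ hq₁) := fun q => by
        by_cases hq : q = q₀
        · simp only [hq, dite_true]
        · simp only [hq, dite_false]; rw [hdegPM q hq, hM q q₁ hq hq₁]
      intro q q'
      exact (key q).trans (key q').symm
    · intro q χ
      by_cases hq : q = q₀
      · simp only [hq, dite_true]; split_ifs <;> ring
      · simp only [hq, dite_false]
        have := hv q hq χ
        rw [hM q q₁ hq hq₁] at this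
        split_ifs at this ⊢ <;> linarith

/-- The arithmetic contradiction. -/
theorem no_table {ι Q : Type*} [Fintype ι] [DecidableEq ι] [Fintype Q] [DecidableEq Q]
    {p d t : ℕ} (hp : p.Prime) (ht : Fintype.card Q = t) (ht4 : 4 ≤ t) (hd : 2 ≤ d)
    (htd : t * d + 1 = p) (v : Q → ι → ℤ) (N : ι → ℤ) (deg : ι → ℕ) (ψ : ι)
    (hpos : ∀ χ, 0 < deg χ) (hdvd : ∀ χ, deg χ ∣ (p + 1) * p * d)
    (gram : ∀ q q', ∑ χ, v q χ * v q' χ = (d : ℤ) + if q = q' then 1 else 0)
    (gram0 : ∀ q, ∑ χ, N χ * v q χ = (d : ℤ))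
    (hdeg : ∀ q q', ∑ χ, v q χ * (deg χ : ℤ) = ∑ χ, v q' χ * (deg χ : ℤ))
    (hsum : ∀ χ, (deg χ : ℤ) = N χ + d * ∑ q, v q χ)
    (hspec : ∀ χ, N χ ≠ 0 → ∀ q q', v q χ = v q' χ ∧
      2 * (v q χ * v q χ) - N χ * v q χ = if χ = ψ then 1 else 0)
    (hψ : N ψ ≠ 0) : False := by
  obtain ⟨ε, e, m, hε, he, hedeg, hv⟩ := exists_star v deg d hpos (ht ▸ ht4) gram hdeg
  obtain ⟨q₀⟩ : Nonempty Q := Fintype.card_pos_iff.mp (by omega)
  obtain ⟨q₁, hq₁⟩ := Fintype.exists_ne_of_one_lt_card (by omega) q₀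
  have hε0 : ε ≠ 0 := by rcases hε with h | h <;> omega
  have hε2 : ε * ε = 1 := by rcases hε with h | h <;> rw [h] <;> norm_num
  -- the exceptional rows
  have hNe : ∀ q, N (e q) = 0 := fun q => by
    by_contra hN
    obtain ⟨q', hq'⟩ := Fintype.exists_ne_of_one_lt_card (by omega : 1 < Fintype.card Q) q
    have h1 := (hspec (e q) hN q q').1
    rw [hv, hv, if_pos rfl, if_neg (fun h => hq' (he h).symm), add_zero] at h1
    omega
  have hsum_e : ∀ q, (deg (e q) : ℤ) = d * (t * m (e q) + ε) := fun q => by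
    rw [hsum, hNe, zero_add]
    congr 1
    simp only [hv]
    rw [Finset.sum_add_distrib, Finset.sum_const, Finset.card_univ, ht]
    simp [he.eq_iff]
  set c := m (e q₀) with hc
  have hmc : ∀ q, m (e q) = c := fun q => by
    have h := hsum_e q
    rw [hedeg q q₀, hsum_e q₀] at h
    have := mul_left_cancel₀ (by omega : (d : ℤ) ≠ 0) h
    have h3 : (t : ℤ) * m (e q) = t * c := by linarith
    exact mul_left_cancel₀ (by omega : (t : ℤ) ≠ 0) h3
  set E := Finset.univ.image e with hE
  have hEcard : E.card = t := by rw [hE, Finset.card_image_of_injective _ he, Finset.card_univ, ht]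
  have hmE : ∀ χ ∈ E, m χ = c := fun χ hχ => by
    obtain ⟨q, -, rfl⟩ := Finset.mem_image.mp hχ
    exact hmc q
  have hvout : ∀ q χ, χ ∉ E → v q χ = m χ := fun q χ hχ => by
    rw [hv, if_neg (by rintro rfl; exact hχ (Finset.mem_image_of_mem e (Finset.mem_univ q))), add_zero]
  -- the other rows with `N = 0` vanish
  have hzero : ∀ χ, χ ∉ E → N χ = 0 → m χ = 0 := by
    intro χ hχ hN
    have h := hsum χ
    simp only [hvout _ χ hχ, Finset.sum_const, Finset.card_univ, ht, hN, zero_add, nsmul_eq_mul] at h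
    by_contra hm
    have hdvd' : t * d ∣ deg χ := by
      have h2 : ((t * d : ℕ) : ℤ) ∣ (deg χ : ℤ) := ⟨m χ, by rw [h]; push_cast; ring⟩
      exact_mod_cast h2
    have h1 := hdvd'.trans (hdvd χ)
    rw [mul_comm t d, mul_comm ((p + 1) * p) d, Nat.mul_dvd_mul_iff_left (by omega)] at h1
    have hcop : Nat.Coprime t p := by
      rw [← htd, Nat.coprime_mul_left_add_right]
      exact Nat.coprime_one_right t
    have h3 := hcop.dvd_of_dvd_mul_right h1
    rw [← htd, add_assoc] at h3
    have h4 : t ∣ 2 := (Nat.dvd_add_right (dvd_mul_right t d)).mp h3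
    have := Nat.le_of_dvd two_pos h4
    omega
  -- the sums
  have hmq : ∀ q χ, v q χ = m χ + if χ = e q then ε else 0 := hv
  have hS1 : ∑ χ, m χ * m χ + 2 * ε * c = d := by
    have h := gram q₁ q₀
    rw [if_neg hq₁, add_zero] at h
    simp only [hmq, add_mul, mul_add, Finset.sum_add_distrib, ite_mul, mul_ite, zero_mul,
      mul_zero, Finset.sum_ite_eq', Finset.mem_univ, if_true, hmc] at h
    rw [if_neg (fun h' => hq₁ (he h').symm)] at h
    rw [← h]; ring
  have hS2 : ∑ χ, N χ * m χ = d := by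
    have h := gram0 q₀
    simp only [hmq, mul_add, Finset.sum_add_distrib, mul_ite, mul_zero, Finset.sum_ite_eq',
      Finset.mem_univ, if_true, hNe, zero_mul, add_zero] at h
    exact h
  have hψE : ψ ∉ E := fun h => by
    obtain ⟨q, -, hq⟩ := Finset.mem_image.mp h
    exact hψ (hq ▸ hNe q)
  have hS3 : ∑ χ, (2 * (m χ * m χ) - N χ * m χ) = 1 + t * (2 * (c * c)) := by
    rw [← Finset.sum_add_sum_compl E, add_comm]
    congr 1
    · rw [Finset.sum_congr rfl (g := fun χ => if χ = ψ then 1 else 0) fun χ hχ => ?_]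
      · simp [hψE]
      · have hχE : χ ∉ E := Finset.mem_compl.mp hχ
        by_cases hN : N χ = 0
        · rw [if_neg (by rintro rfl; exact hψ hN), hzero χ hχE hN, hN]; ring
        · have h := (hspec χ hN q₀ q₀).2
          rwa [hvout q₀ χ hχE] at h
    · rw [Finset.sum_congr rfl (g := fun _ => 2 * (c * c)) fun χ hχ => ?_, Finset.sum_const, hEcard,
        nsmul_eq_mul]
      obtain ⟨q, -, rfl⟩ := Finset.mem_image.mp hχ
      rw [hmc, hNe]; ring
  rw [Finset.sum_sub_distrib, ← Finset.mul_sum, hS2] at hS3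
  set q := (t : ℤ) * c + ε with hq
  have hq2 : 2 * (q * q) = t * ((d : ℤ) - 1) + 2 := by
    rw [hq]
    linear_combination (t : ℤ) * (2 * hS1 - hS3) + 2 * hε2
  have hdegq : (deg (e q₀) : ℤ) = d * q := hsum_e q₀
  have hqpos : 0 < q := by
    have := hpos (e q₀)
    by_contra hneg
    nlinarith
  obtain ⟨r, hr⟩ : ∃ r : ℕ, q = r := ⟨q.toNat, by omega⟩
  rw [hr] at hq2 hdegq hqpos hq
  have hrdvd : r ∣ (p + 1) * p := by
    have h1 : deg (e q₀) = d * r := by exact_mod_cast hdegq
    have := hdvd (e q₀)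
    rw [h1, mul_comm ((p + 1) * p) d] at this
    exact (Nat.mul_dvd_mul_iff_left (by omega)).mp this
  have hrlt : r < p := by
    by_contra hge
    have h1 : (p : ℤ) ≤ r := by exact_mod_cast not_lt.mp hge
    have h2 : (t : ℤ) * d + 1 = p := by exact_mod_cast htd
    nlinarith
  have hr1 : r ∣ p + 1 := by
    refine (Nat.Coprime.dvd_of_dvd_mul_right ?_ hrdvd)
    exact ((hp.coprime_iff_not_dvd).mpr fun h => by have := Nat.le_of_dvd (by omega) h; omega).symm
  have h1 : (r : ℤ) ∣ t * d + 2 := by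
    have : ((r : ℕ) : ℤ) ∣ ((p + 1 : ℕ) : ℤ) := Int.natCast_dvd_natCast.mpr hr1
    rw [← htd] at this
    push_cast at this
    rwa [show (t : ℤ) * d + 2 = t * d + 1 + 1 by ring]
  have h2 : (r : ℤ) ∣ t * ((d : ℤ) - 1) + 2 := ⟨2 * r, by rw [← hq2]; ring⟩
  have h3 : (r : ℤ) ∣ t := by
    have := dvd_sub h1 h2
    rwa [show (t : ℤ) * d + 2 - (t * ((d : ℤ) - 1) + 2) = t by ring] at this
  have h4 : (r : ℤ) ∣ ε := by
    have h5 : (r : ℤ) ∣ t * c + ε := hq ▸ dvd_refl _
    exact (dvd_add_right (h3.mul_right c)).mp h5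
  have h6 : r = 1 := by
    have h7 : (r : ℤ) ∣ 1 := by rw [← hε2]; exact h4.mul_right ε
    have h8 := Int.eq_one_of_dvd_one (by omega) h7
    omega
  rw [h6] at hq2
  have : (t : ℤ) * ((d : ℤ) - 1) = 0 := by push_cast at hq2; linarith
  rcases mul_eq_zero.mp this with h | h <;> omega

end Cfsg.Agent.PermGp.PrimeSucc
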