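import Cfsg.Agent.Lib.PermGp.PrimeSucc.Iso
import Cfsg.Agent.Lib.PermGp.ZassenhausInvolutions
import Mathlib.NumberTheory.LegendreSymbol.Basic

/-! Transitive groups of degree `p + 1`: stabilisers of two points of even order. -/

set_option autoImplicit false
set_option linter.unusedSectionVars false

namespace Cfsg.Agent.PermGp.PrimeSucc

open MulAction

theorem key13 : ∀ c : ZMod 13, c ^ 6 = 1 →
    ∃ a : ZMod 13, a ^ 6 = 1 ∧ (c = a * a ∨ c = -(a * a)) := by decide

theorem key17 : ∀ c : ZMod 17, c ^ 8 = 1 → ∃ n : Fin 8, c = 2 ^ (n : ℕ) := by decide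

theorem key17_pow : (2 : ZMod 17) ^ 8 = 1 := by decide

theorem key17_sq : IsSquare (1 - 2 : ZMod 17) := ⟨4, by decide⟩

variable {α : Type*} [Fintype α] [DecidableEq α] {G : Subgroup (Equiv.Perm α)} {i : α} {p d : ℕ}
  [hpf : Fact p.Prime]

/-- An involution exchanging the two base points, in coordinates. -/
structure Swap (C : Coords G i p d) (w : G) (s : ZMod p → ZMod p) : Prop where
  sq : w * w = 1
  smul_i : w • i = C.f 0
  smul_zero : w • C.f 0 = i
  smul : ∀ x, x ≠ 0 → w • C.f x = C.f (s x)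
  ne_zero : ∀ x, x ≠ 0 → s x ≠ 0

theorem exists_swap (C : Coords G i p d) {w : G} (hw : w * w = 1) (h1 : w • i = C.f 0)
    (h2 : w • C.f 0 = i) : ∃ s, Swap C w s := by
  have h : ∀ x : ZMod p, ∃ y : ZMod p, x ≠ 0 → w • C.f x = C.f y ∧ y ≠ 0 := fun x => by
    by_cases hx : x = 0
    · exact ⟨0, fun h => absurd hx h⟩
    obtain ⟨y, hy⟩ := C.f_surj (w • C.f x) fun e => hx (C.f_inj (MulAction.injective w (e.trans h2.symm)))
    exact ⟨y, fun _ => ⟨hy.symm, fun hy0 => C.f_ne x (MulAction.injective w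
      (by show w • C.f x = w • i; rw [h1, ← hy, hy0]))⟩⟩
  choose s hs using h
  exact ⟨s, hw, h1, h2, fun x hx => (hs x hx).1, fun x hx => (hs x hx).2⟩

namespace Swap

variable {C : Coords G i p d} {w : G} {s : ZMod p → ZMod p} (W : Swap C w s)
include W

theorem s_s {x : ZMod p} (hx : x ≠ 0) : s (s x) = x := by
  apply C.f_inj
  rw [← W.smul _ (W.ne_zero x hx), ← W.smul x hx, smul_smul, W.sq, one_smul]

theorem s_dil {c : ZMod p} (hc : c ^ d = 1) :
    ∃ c' : ZMod p, c' ^ d = 1 ∧ ∀ x, x ≠ 0 → s (c * x) = c' * s x := by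
  obtain ⟨h, hi, h0, hh⟩ := C.exists_of_pow hc
  have hd : 0 < d := C.card_stab ▸ Nat.card_pos
  have hc0 : c ≠ 0 := fun e => by rw [e, zero_pow hd.ne'] at hc; exact zero_ne_one hc
  have hi' : (w * h * w) • i = i := by rw [mul_smul, mul_smul, W.smul_i, h0, W.smul_zero]
  have h0' : (w * h * w) • C.f 0 = C.f 0 := by rw [mul_smul, mul_smul, W.smul_zero, hi, W.smul_i]
  obtain ⟨c', -, hh'⟩ := C.exists_dil hi' h0'
  refine ⟨c', C.dil_pow hi' h0' hh', fun x hx => C.f_inj ?_⟩
  rw [← hh', ← W.smul _ (mul_ne_zero hc0 hx), ← hh, mul_smul, mul_smul]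
  congr 2
  rw [← W.smul x hx, smul_smul, W.sq, one_smul]

end Swap

/-- In the even case the involution is inversion. -/
theorem exists_inversion (C : Coords G i p d) (heven : Even d) (hd : 2 * d ≥ p - 1) :
    ∃ w : G, w • i = C.f 0 ∧ w • C.f 0 = i ∧ ∀ x : ZMod p, x ≠ 0 → w • C.f x = C.f (1 / x) := by
  have hp := hpf.out
  have hdpos : 0 < d := C.card_stab ▸ Nat.card_pos
  have hdp : d ∣ p - 1 := C.dvd_sub_one
  have hd2 : 2 ≤ d := by obtain ⟨k, rfl⟩ := heven; omega
  have hp3 : 3 ≤ p := by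
    have := Nat.le_of_dvd (by have := hp.two_le; omega) hdp
    omega
  have h20 : (2 : ZMod p) ≠ 0 := fun h => by
    have h' : ((2 : ℕ) : ZMod p) = 0 := by exact_mod_cast h
    rw [ZMod.natCast_eq_zero_iff] at h'
    have := Nat.le_of_dvd two_pos h'
    omega
  obtain ⟨u, huu, -, hui, hu0, hu1⟩ := exists_swap_fixing C.two_trans C.fix_three' (C.f_ne 0).symm
    (by rwa [C.card_stab]) (C.f 1) (C.f_ne 1) (fun e => one_ne_zero (C.f_inj e))
  obtain ⟨s, W⟩ := exists_swap C huu hui hu0
  have hs1 : s 1 = 1 := C.f_inj ((W.smul 1 one_ne_zero).symm.trans hu1)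
  have hneg : (-1 : ZMod p) ^ d = 1 := heven.neg_one_pow
  have hsneg : ∀ x, x ≠ 0 → s (-x) = -s x := by
    obtain ⟨c, -, hc⟩ := W.s_dil hneg
    have h1 := hc 1 one_ne_zero
    rw [hs1, mul_one, mul_one] at h1
    have h2 : c * c = 1 := by
      have h3 := hc (-1) (neg_ne_zero.mpr one_ne_zero)
      rw [neg_one_mul, neg_neg, hs1, h1] at h3
      exact h3.symm
    rcases mul_self_eq_one_iff.mp h2 with h | h
    · exfalso
      rw [h] at h1
      have h4 := W.s_s (x := -1) (neg_ne_zero.mpr one_ne_zero)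
      rw [h1, hs1] at h4
      exact h20 (by linear_combination h4)
    · intro x hx
      have := hc x hx
      rw [h, neg_one_mul, neg_one_mul] at this
      exact this
  -- the braid relation with `x ↦ 1 - x`
  have hbraid : ∀ x : ZMod p, x ≠ 0 → x ≠ 1 → 1 - s (1 - x) = s (1 - s x) := by
    obtain ⟨z, hzi, hz0, hz⟩ := C.exists_of_pow hneg
    set r : G := C.tr 1 * z with hr
    have hri : r • i = i := by rw [hr, mul_smul, hzi, C.tr_fix]
    have hrx : ∀ x, r • C.f x = C.f (1 - x) := fun x => by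
      rw [hr, mul_smul, hz, C.tr_apply, neg_one_mul, sub_eq_add_neg]
    have heq : u * r * u = r * u * r := by
      refine inv_mul_eq_one.mp (C.fix_three _ i (C.f 0) (C.f 1) (C.f_ne 0).symm (C.f_ne 1).symm
        (fun e => zero_ne_one (C.f_inj e)) ?_ ?_ ?_)
      · rw [mul_smul, inv_smul_eq_iff]
        simp only [mul_smul, hri, hrx, W.smul_i, sub_zero, hu1]
      · rw [mul_smul, inv_smul_eq_iff]
        simp only [mul_smul, hri, hrx, W.smul_i, W.smul_zero, sub_zero, hu1, sub_self]
      · rw [mul_smul, inv_smul_eq_iff]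
        simp only [mul_smul, hri, hrx, W.smul_i, W.smul_zero, sub_zero, hu1, sub_self]
    intro x hx hx1
    have h := congrArg (fun g : G => g • C.f x) heq
    simp only [mul_smul, hrx] at h
    have h1x : 1 - x ≠ 0 := sub_ne_zero.mpr (Ne.symm hx1)
    have hsx : 1 - s x ≠ 0 := sub_ne_zero.mpr fun e => hx1 (by rw [← W.s_s hx, ← e, hs1])
    rw [W.smul x hx, W.smul _ h1x, hrx, hrx, W.smul _ hsx] at h
    exact (C.f_inj h).symm
  -- good points are propagated
  have hstep : ∀ x : ZMod p, x ^ d = 1 → x ≠ 1 → s x = x⁻¹ → s (1 - x) = (1 - x)⁻¹ := by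
    intro x hxd hx1 hsx
    have hx : x ≠ 0 := fun e => by rw [e, zero_pow hdpos.ne'] at hxd; exact zero_ne_one hxd
    have h1x : 1 - x ≠ 0 := sub_ne_zero.mpr (Ne.symm hx1)
    have hc : (-x⁻¹) ^ d = 1 := by rw [neg_pow, hneg, one_mul, inv_pow, hxd, inv_one]
    obtain ⟨c, -, hcs⟩ := W.s_dil hc
    have h1 := hcs 1 one_ne_zero
    rw [hs1, mul_one, mul_one, hsneg _ (inv_ne_zero hx)] at h1
    have hsi : s x⁻¹ = x := by rw [← hsx, W.s_s hx]
    rw [hsi] at h1
    have hb := hbraid x hx hx1
    rw [hsx, show 1 - x⁻¹ = -x⁻¹ * (1 - x) by field_simp; ring, hcs _ h1x, ← h1] at hb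
    exact eq_inv_of_mul_eq_one_left (by linear_combination -hb)
  -- closure under `x ↦ x + 1`
  have hall : (∀ x : ZMod p, x ^ d = 1 → x ≠ 1 → s x = x⁻¹ → (1 - x) ^ d = 1) →
      ∀ x : ZMod p, x ≠ 0 → x ^ d = 1 ∧ s x = x⁻¹ := by
    intro hcl
    have : ∀ n : ℕ, (n : ZMod p) ≠ 0 → (n : ZMod p) ^ d = 1 ∧ s n = (n : ZMod p)⁻¹ := by
      intro n
      induction n with
      | zero => intro h; simp at h
      | succ n ih =>
        intro hn
        push_cast at hn ⊢
        by_cases h0 : (n : ZMod p) = 0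
        · rw [h0, zero_add, one_pow, inv_one]; exact ⟨rfl, hs1⟩
        obtain ⟨ha, hb⟩ := ih h0
        have hd' : (-(n : ZMod p)) ^ d = 1 := by rw [neg_pow, hneg, one_mul, ha]
        have hs' : s (-(n : ZMod p)) = (-(n : ZMod p))⁻¹ := by rw [hsneg _ h0, hb, inv_neg]
        have hne : (-(n : ZMod p)) ≠ 1 := fun e => hn (by linear_combination -e)
        rw [show (n : ZMod p) + 1 = 1 - -(n : ZMod p) by ring]
        exact ⟨hcl _ hd' hne hs', hstep _ hd' hne hs'⟩
    intro x hx
    rw [← ZMod.natCast_zmod_val x] at hx ⊢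
    exact this _ hx
  have hfin : (∀ x : ZMod p, x ≠ 0 → s x = x⁻¹) →
      ∃ w : G, w • i = C.f 0 ∧ w • C.f 0 = i ∧ ∀ x : ZMod p, x ≠ 0 → w • C.f x = C.f (1 / x) :=
    fun h => ⟨u, hui, hu0, fun x hx => by rw [W.smul x hx, h x hx, one_div]⟩
  apply hfin
  by_cases hfull : d = p - 1
  · exact fun x hx => (hall (fun y _ hy1 _ => by
      rw [hfull]; exact ZMod.pow_card_sub_one_eq_one (sub_ne_zero.mpr (Ne.symm hy1))) x hx).2
  have hhalf : 2 * d = p - 1 := by
    obtain ⟨k, hk⟩ := hdp
    rcases Nat.lt_or_ge k 2 with hk2 | hk2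
    · interval_cases k <;> simp at hk <;> omega
    · have := Nat.mul_le_mul_left d hk2
      omega
  let φ : ZMod p → ZMod p := fun x => x * s x
  have hpsq : ∀ {x : ZMod p}, x ≠ 0 → (x ^ d = 1 ↔ IsSquare x) := fun {x} hx => by
    rw [ZMod.euler_criterion p hx, show p / 2 = d by omega]
  -- the value on a coset of the dilations
  have hcomm : ∀ c : ZMod p, c ^ d = 1 → φ c = 1 ∨ φ c = -1 := by
    intro c hc
    have hc0 : c ≠ 0 := fun e => by rw [e, zero_pow hdpos.ne'] at hc; exact zero_ne_one hc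
    obtain ⟨c', hc', hcs⟩ := W.s_dil hc
    have hc1 : s c = c' := by have := hcs 1 one_ne_zero; rwa [hs1, mul_one, mul_one] at this
    have hc'0 : c' ≠ 0 := hc1 ▸ W.ne_zero c hc0
    obtain ⟨c'', -, hcs'⟩ := W.s_dil hc'
    have hc2 : c'' = c := by
      have := hcs' 1 one_ne_zero
      rw [hs1, mul_one, mul_one, ← hc1, W.s_s hc0] at this
      exact this.symm
    have he : s (c * c') = c * c' := by
      rw [hcs c' hc'0, ← hc1, W.s_s hc0, mul_comm]
    have hed : (c * c') ^ d = 1 := by rw [mul_pow, hc, hc', one_mul]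
    show c * s c = 1 ∨ c * s c = -1
    rw [hc1]
    by_contra hcon
    rw [not_or] at hcon
    have hne := mul_ne_zero hc0 hc'0
    have hfix : u • C.f (c * c') = C.f (c * c') := by rw [W.smul _ hne, he]
    have hm1 : u • C.f (-1) = C.f (-1) := by
      rw [W.smul _ (neg_ne_zero.mpr one_ne_zero), hsneg 1 one_ne_zero, hs1]
    have := C.fix_three u (C.f 1) (C.f (-1)) (C.f (c * c'))
      (fun e => h20 (by linear_combination C.f_inj e)) (fun e => hcon.1 (C.f_inj e).symm)
      (fun e => hcon.2 (C.f_inj e).symm) hu1 hm1 hfix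
    rw [this, one_smul] at hui
    exact C.f_ne 0 hui.symm
  have hmul : ∀ c x : ZMod p, c ^ d = 1 → x ≠ 0 → φ (c * x) = φ c * φ x := by
    intro c x hc hx
    obtain ⟨c', -, hcs⟩ := W.s_dil hc
    show c * x * s (c * x) = c * s c * (x * s x)
    have hc1 : s c = c' := by have := hcs 1 one_ne_zero; rwa [hs1, mul_one, mul_one] at this
    rw [hcs x hx, hc1]; ring
  have hφneg : φ (-1) = 1 := by
    show (-1 : ZMod p) * s (-1) = 1
    rw [hsneg 1 one_ne_zero, hs1, neg_one_mul, neg_neg]
  have hφone : φ 1 = 1 := by show (1 : ZMod p) * s 1 = 1; rw [hs1, one_mul]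
  have hφinv : ∀ x, x ≠ 0 → φ x = 1 → s x = x⁻¹ := fun x hx h => eq_inv_of_mul_eq_one_right h
  have hnm1 : (-1 : ZMod p) ≠ 1 := fun e => h20 (by linear_combination -e)
  have htriv : ∀ c : ZMod p, c ^ d = 1 → φ c = 1 := by
    by_contra! hcon
    obtain ⟨y, hyd, hy⟩ := hcon
    have hy' : φ y = -1 := (hcomm y hyd).resolve_left hy
    have hnz : ∀ {c : ZMod p}, c ^ d = 1 → c ≠ 0 := fun {c} hc e => by
      rw [e, zero_pow hdpos.ne'] at hc; exact zero_ne_one hc
    -- the two equations of a bad point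
    have hbad : ∀ x : ZMod p, x ^ d = 1 → φ x = -1 →
        ¬ IsSquare (1 - x) ∧ (1 + φ (1 - x)) * x ^ 2 = 1 - φ (1 - x) := by
      intro x hxd hx
      have hx0 := hnz hxd
      have hx1 : x ≠ 1 := fun e => hnm1 (hx.symm.trans (e ▸ hφone))
      have hxm : x ≠ -1 := fun e => hnm1 (hx.symm.trans (e ▸ hφneg))
      have eqn : ∀ z : ZMod p, z ^ d = 1 → φ z = -1 → z ≠ 1 → z ≠ -1 →
          -(1 + φ (1 + z)) * z ^ 2 + (φ (1 + z) - φ (1 - z)) * z + (1 - φ (1 - z)) = 0 := by
        intro z hzd hz hz1 hzm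
        have hz0 := hnz hzd
        have hsz : s z = -z⁻¹ := by
          have h : z * s z = -1 := hz
          field_simp
          linear_combination h
        have hszi : s z⁻¹ = -z := by
          have h := congrArg (fun a => -s a) hsz
          simp only [W.s_s hz0, hsneg _ (inv_ne_zero hz0), neg_neg] at h
          exact h.symm
        have hb := hbraid z hz0 hz1
        have hzp : 1 + z ≠ 0 := fun e => hzm (by linear_combination e)
        have hzq : 1 - z ≠ 0 := sub_ne_zero.mpr (Ne.symm hz1)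
        obtain ⟨c, -, hcs⟩ := W.s_dil (c := z⁻¹) (by rw [inv_pow, hzd, inv_one])
        have hc1 := hcs 1 one_ne_zero
        rw [hs1, mul_one, mul_one, hszi] at hc1
        rw [hsz, show 1 - -z⁻¹ = z⁻¹ * (1 + z) by field_simp; ring, hcs _ hzp, ← hc1] at hb
        show -(1 + (1 + z) * s (1 + z)) * z ^ 2 + ((1 + z) * s (1 + z) - (1 - z) * s (1 - z)) * z +
          (1 - (1 - z) * s (1 - z)) = 0
        linear_combination ((1 + z) * (1 - z)) * hb
      have h1 := eqn x hxd hx hx1 hxm
      have h2 := eqn (-x) (by rw [neg_pow, hneg, one_mul, hxd])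
        (by have h : x * s x = -1 := hx
            show (-x) * s (-x) = -1; rw [hsneg x hx0]; linear_combination h)
        (fun e => hxm (by linear_combination -e)) (fun e => hx1 (neg_injective e))
      rw [show 1 + -x = 1 - x by ring, show 1 - -x = 1 + x by ring] at h2
      have hAB : φ (1 + x) = φ (1 - x) := by
        have : (φ (1 - x) - φ (1 + x)) * (x ^ 2 - 1) = 0 := by linear_combination h1 - h2
        rcases mul_eq_zero.mp this with h | h
        · linear_combination -h
        · rcases sq_eq_one_iff.mp (sub_eq_zero.mp h) with h' | h'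
          · exact absurd h' hx1
          · exact absurd h' hxm
      rw [hAB] at h1
      refine ⟨fun hsq => ?_, by linear_combination -h1⟩
      rcases hcomm _ ((hpsq (sub_ne_zero.mpr (Ne.symm hx1))).mpr hsq) with h | h
      · rw [h] at h1
        exact mul_ne_zero h20 (pow_ne_zero 2 hx0) (by linear_combination -h1)
      · rw [h] at h1
        exact h20 (by linear_combination h1)
    obtain ⟨hν, heqν⟩ := hbad y hyd hy'
    set k := φ (1 - y)
    have hy1 : y ≠ 1 := fun e => hy (e ▸ hφone)
    have hνne : 1 - y ≠ 0 := sub_ne_zero.mpr (Ne.symm hy1)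
    have hcoset : ∀ x : ZMod p, ¬ IsSquare x → φ x = k ∨ φ x = -k := by
      intro x hx
      have hx0 : x ≠ 0 := fun e => hx (e ▸ IsSquare.zero)
      have hc : (x / (1 - y)) ^ d = 1 := by
        rw [div_pow]
        rcases ZMod.pow_div_two_eq_neg_one_or_one p hx0 with h | h <;>
          rcases ZMod.pow_div_two_eq_neg_one_or_one p hνne with h' | h' <;>
          rw [show p / 2 = d by omega] at h h'
        · exact absurd ((hpsq hx0).mp h) hx
        · exact absurd ((hpsq hx0).mp h) hx
        · exact absurd ((hpsq hνne).mp h') hν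
        · rw [h, h', div_self (neg_ne_zero.mpr one_ne_zero)]
      have := hmul _ (1 - y) hc hνne
      rw [div_mul_cancel₀ _ hνne] at this
      rcases hcomm _ hc with h | h <;> rw [h] at this
      · left; rw [this, one_mul]
      · right; rw [this, neg_one_mul]
    classical
    set T := (Finset.univ.filter fun x : ZMod p => x ^ d = 1 ∧ φ x = -1) with hT
    set R := (Finset.univ.filter fun x : ZMod p =>
      (1 + k) * x ^ 2 = 1 - k ∨ (1 - k) * x ^ 2 = 1 + k) with hR
    have hTR : T ⊆ R := fun x hx => by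
      obtain ⟨hxd, hx'⟩ := (Finset.mem_filter.mp hx).2
      obtain ⟨hns, he⟩ := hbad x hxd hx'
      refine Finset.mem_filter.mpr ⟨Finset.mem_univ _, ?_⟩
      rcases hcoset _ hns with h | h <;> rw [h] at he
      · exact Or.inl he
      · right; linear_combination he
    have hroots : ∀ a b : ZMod p, (a ≠ 0 ∨ b ≠ 0) →
        (Finset.univ.filter fun x : ZMod p => a * x ^ 2 = b).card ≤ 2 := by
      intro a b hab
      rcases eq_or_ne a 0 with rfl | ha
      · have hb : b ≠ 0 := hab.resolve_left fun h => h rfl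
        simp [Ne.symm hb]
      · refine le_trans (Finset.card_le_card fun x hx => ?_)
          ((Multiset.toFinset_card_le _).trans (Polynomial.card_nthRoots 2 (b / a)))
        rw [Multiset.mem_toFinset, Polynomial.mem_nthRoots two_pos, eq_div_iff ha, mul_comm]
        exact (Finset.mem_filter.mp hx).2
    have hR4 : R.card ≤ 4 := by
      refine (le_of_eq (by rw [hR, Finset.filter_or])).trans ((Finset.card_union_le _ _).trans
        (add_le_add (hroots (1 + k) (1 - k) ?_) (hroots (1 - k) (1 + k) ?_))) <;>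
      · by_contra h
        rw [not_or, not_not, not_not] at h
        exact h20 (by linear_combination h.1 + h.2)
    have hDT : d ≤ 2 * T.card := by
      set D := (Finset.univ.filter fun x : ZMod p => x ^ d = 1) with hD
      have hDcard : d ≤ D.card := by
        obtain ⟨π, hinj, hπ⟩ := C.exists_dilHom
        have := Fintype.ofFinite ↥(stabilizer G i ⊓ stabilizer G (C.f 0))
        rw [← C.card_stab, Nat.card_eq_fintype_card, ← Finset.card_univ]
        exact Finset.card_le_card_of_injOn (fun h => (π h : ZMod p)) (fun h _ => Finset.mem_filter.mpr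
          ⟨Finset.mem_univ _, C.dil_pow (Subgroup.mem_inf.mp h.2).1 (Subgroup.mem_inf.mp h.2).2 (hπ h)⟩)
          (fun a _ b _ e => hinj (Units.ext e))
      have hsub : D ⊆ T ∪ T.image (fun x => y⁻¹ * x) := fun x hx => by
        have hxd := (Finset.mem_filter.mp hx).2
        rcases hcomm x hxd with h | h
        · refine Finset.mem_union_right _ (Finset.mem_image.mpr ⟨y * x, Finset.mem_filter.mpr
            ⟨Finset.mem_univ _, by rw [mul_pow, hyd, hxd, one_mul],
              by rw [hmul y x hyd (hnz hxd), hy', h, mul_one]⟩, ?_⟩)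
          rw [← mul_assoc, inv_mul_cancel₀ (hnz hyd), one_mul]
        · exact Finset.mem_union_left _ (Finset.mem_filter.mpr ⟨Finset.mem_univ _, hxd, h⟩)
      have := (Finset.card_le_card hsub).trans (Finset.card_union_le _ _)
      have := Finset.card_image_le (s := T) (f := fun x => y⁻¹ * x)
      omega
    have hp17 : p ≤ 17 := by have := Finset.card_le_card hTR; omega
    have hd4 : d = 2 ∨ d = 6 ∨ d = 8 := by
      obtain ⟨m, rfl⟩ := heven
      have : m ≤ 4 := by omega
      have hpm : p = 4 * m + 1 := by omega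
      interval_cases m
      · omega
      · omega
      · rw [hpm] at hp; norm_num at hp
      · omega
      · omega
    -- squares and negatives of squares are good
    have hgood : ∀ a b : ZMod p, a ^ d = 1 → b = a * a ∨ b = -(a * a) → φ b = 1 := by
      intro a b ha hb
      have h1 : φ (a * a) = 1 := by
        rw [hmul a a ha (hnz ha)]
        rcases hcomm a ha with h | h <;> rw [h] <;> norm_num
      rcases hb with rfl | rfl
      · exact h1
      · rw [← neg_one_mul, hmul _ _ hneg (mul_ne_zero (hnz ha) (hnz ha)), hφneg, h1, one_mul]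
    rcases hd4 with rfl | rfl | rfl
    · rcases sq_eq_one_iff.mp hyd with h | h
      · exact hy1 h
      · exact hy (h ▸ hφneg)
    · obtain rfl : p = 13 := by omega
      obtain ⟨a, ha, hb⟩ := key13 y hyd
      exact hy (hgood a y ha hb)
    · obtain rfl : p = 17 := by omega
      have h2d : (2 : ZMod 17) ^ 8 = 1 := key17_pow
      have h2 : φ 2 = 1 := by
        rcases hcomm 2 h2d with h | h
        · exact h
        · exact absurd key17_sq (hbad 2 h2d h).1
      obtain ⟨n, hn⟩ := key17 y hyd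
      have : ∀ m : ℕ, φ ((2 : ZMod 17) ^ m) = 1 := by
        intro m
        induction m with
        | zero => rw [pow_zero]; exact hφone
        | succ m ih =>
          rw [pow_succ', hmul 2 _ h2d (pow_ne_zero _ (hnz h2d)), h2, ih, one_mul]
      exact hy (hn ▸ this n)
  obtain ⟨y, hyd, hy1, hyn⟩ : ∃ y : ZMod p, y ^ d = 1 ∧ y ≠ 1 ∧ ¬ (1 - y) ^ d = 1 := by
    by_contra! hcl
    obtain ⟨ν, hν⟩ := FiniteField.exists_nonsquare (F := ZMod p) (by rw [ZMod.ringChar_zmod_n]; omega)
    have hν0 : ν ≠ 0 := fun e => hν (e ▸ IsSquare.zero)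
    exact hν ((hpsq hν0).mp (hall (fun x hx hx1 _ => hcl x hx hx1) ν hν0).1)
  have hyn' : 1 - y ≠ 0 := sub_ne_zero.mpr (Ne.symm hy1)
  have hy0 : y ≠ 0 := fun e => by rw [e, zero_pow hdpos.ne'] at hyd; exact zero_ne_one hyd
  have hsy := hstep y hyd hy1 (hφinv y hy0 (htriv y hyd))
  intro x hx
  by_cases hxd : x ^ d = 1
  · exact hφinv x hx (htriv x hxd)
  · have hc : (x / (1 - y)) ^ d = 1 := by
      rw [div_pow]
      rcases ZMod.pow_div_two_eq_neg_one_or_one p hx with h | h <;>
        rcases ZMod.pow_div_two_eq_neg_one_or_one p hyn' with h' | h' <;>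
        rw [show p / 2 = d by omega] at h h'
      · exact absurd h hxd
      · exact absurd h hxd
      · exact absurd h' hyn
      · rw [h, h', div_self (neg_ne_zero.mpr one_ne_zero)]
    refine hφinv x hx ?_
    have := hmul _ (1 - y) hc hyn'
    rw [div_mul_cancel₀ _ hyn', htriv _ hc, one_mul] at this
    rw [this]
    show (1 - y) * s (1 - y) = 1
    rw [hsy, mul_inv_cancel₀ hyn']

/-- The dilations are squares when there are `(p - 1) / 2` of them. -/
theorem dil_isSquare (C : Coords G i p d) (hd : 2 * d = p - 1) :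
    ∀ g : G, g • i = i → g • C.f 0 = C.f 0 → ∀ c, (∀ x, g • C.f x = C.f (c * x)) → IsSquare c := by
  intro g hi h0 c hc
  have h := C.dil_pow hi h0 hc
  have hd0 : 0 < d := C.card_stab ▸ Nat.card_pos
  have hc0 : c ≠ 0 := fun e => by rw [e, zero_pow hd0.ne'] at h; exact zero_ne_one h
  rw [ZMod.euler_criterion p hc0, show p / 2 = d by omega]
  exact h

/-- The even case. -/
theorem even_case (C : Coords G i p d) (hα : Fintype.card α = p + 1)
    (hG : Nat.card G = (p + 1) * p * d) (heven : Even d) :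
    (d = p - 1 ∧ Nonempty (G ≃* Matrix.ProjGenLinGroup (Fin 2) (ZMod p))) ∨
      (2 * d = p - 1 ∧ Nonempty (G ≃* Matrix.ProjectiveSpecialLinearGroup (Fin 2) (ZMod p))) := by
  have hb := card_sub_two_le_two_mul' C.two_trans C.fix_three' (C.f_ne 0).symm
    (by rwa [C.card_stab])
  rw [C.card_stab, hα] at hb
  obtain ⟨w, h1, h2, h3⟩ := exists_inversion C heven (by omega)
  obtain ⟨k, hk⟩ := C.dvd_sub_one
  have hd0 : 0 < d := C.card_stab ▸ Nat.card_pos
  have hp1 : 1 ≤ p - 1 := by have := hpf.out.two_le; omega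
  have hk2 : k ≤ 2 := by
    by_contra hk3
    have := Nat.mul_le_mul_left d (show 3 ≤ k by omega)
    omega
  rcases (show k = 1 ∨ k = 2 by rcases Nat.eq_zero_or_pos k with rfl | hk0 <;> omega) with rfl | rfl
  · left
    exact ⟨by omega, iso_pgl C hG (by omega) one_ne_zero h1 h2 h3⟩
  · right
    refine ⟨by omega, iso_psl C hG (by omega) one_ne_zero ?_ h1 h2 h3 (dil_isSquare C (by omega))⟩
    rw [ZMod.euler_criterion p (neg_ne_zero.mpr one_ne_zero), show p / 2 = d by omega]
    exact heven.neg_one_pow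

end Cfsg.Agent.PermGp.PrimeSucc
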