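import Cfsg.Agent.Lib.PermGp.PrimeSucc.Setup
import Cfsg.Prelude.Def_Perm
import Mathlib.FieldTheory.Finite.GaloisField
import Mathlib.NumberTheory.Fermat
import Mathlib.GroupTheory.PGroup

/-! Transitive groups of degree `p + 1` with an abelian regular normal subgroup. -/

set_option autoImplicit false
set_option linter.unusedSectionVars false

namespace Cfsg.Agent.PermGp.PrimeSucc

open MulAction

universe u

variable {α : Type u} [Fintype α] [DecidableEq α] {G : Subgroup (Equiv.Perm α)} {i : α} {p d : ℕ}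
  [hpf : Fact p.Prime]

theorem ringEquiv_pow_eq_one {q : ℕ} (hq : q ≠ 0) (φ : GaloisField 2 q ≃+* GaloisField 2 q) : φ ^ q = 1 := by
  let A : GaloisField 2 q ≃ₐ[ZMod 2] GaloisField 2 q :=
    AlgEquiv.ofRingEquiv (f := φ) fun x =>
      RingHom.congr_fun (Subsingleton.elim ((φ : GaloisField 2 q →+* GaloisField 2 q).comp
        (algebraMap (ZMod 2) _)) (algebraMap (ZMod 2) _)) x
  have hcard : Nat.card (GaloisField 2 q ≃ₐ[ZMod 2] GaloisField 2 q) = q := by
    rw [IsGalois.card_aut_eq_finrank, GaloisField.finrank 2 hq]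
  have hA : A ^ q = 1 := by
    have h := pow_card_eq_one' (x := A)
    rwa [hcard] at h
  have key : ∀ (n : ℕ) (x : GaloisField 2 q), (φ ^ n) x = (A ^ n) x := by
    intro n
    induction n with
    | zero => intro x; simp
    | succ n ih =>
      intro x
      rw [pow_succ, pow_succ]
      show (φ ^ n) (φ x) = (A ^ n) (A x)
      rw [ih]
      rfl
  refine RingEquiv.ext fun x => ?_
  rw [key q x, hA]
  rfl

/-- The conclusion in the presence of a regular normal elementary abelian 2-subgroup. -/
theorem field_case (C : Coords G i p d) (hα : Fintype.card α = p + 1) (E : Subgroup G) [E.Normal]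
    (hexp : ∀ x ∈ E, x * x = 1) (hreg : ∀ x : α, ∃ e ∈ E, e • i = x)
    (hsemi : ∀ e ∈ E, e • i = i → e = 1) :
    ∃ q : ℕ, q.Prime ∧ p + 1 = 2 ^ q ∧ (d = 1 ∨ d = q) ∧
      ∃ e : α ≃ GaloisField 2 q, ∀ g : G,
        (e.symm.trans (((g : Equiv.Perm α)).trans e)) ∈ Cfsg.semiaffineGroup (GaloisField 2 q) := by
  classical
  have hp := hpf.out
  choose τ hτE hτi using hreg
  have hτu : ∀ (x : α) (e : G), e ∈ E → e • i = x → e = τ x := fun x e he h => by
    have := hsemi ((τ x)⁻¹ * e) (E.mul_mem (E.inv_mem (hτE x)) he)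
      (by rw [mul_smul, h, inv_smul_eq_iff, hτi])
    exact (inv_mul_eq_one.mp this).symm
  have hEcard : Nat.card E = p + 1 := by
    rw [← hα, ← Nat.card_eq_fintype_card]
    exact Nat.card_congr
      { toFun := fun e => (e : G) • i
        invFun := fun x => ⟨τ x, hτE x⟩
        left_inv := fun e => Subtype.ext (hτu _ e e.2 rfl).symm
        right_inv := fun x => hτi x }
  have : Fact (Nat.Prime 2) := ⟨Nat.prime_two⟩
  obtain ⟨n, hn⟩ := (IsPGroup.iff_card (p := 2) (G := E)).mp fun e => ⟨1, Subtype.ext (by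
    show ((e : G)) ^ (2 ^ 1) = 1
    rw [pow_one, pow_two]; exact hexp _ e.2)⟩
  rw [hEcard] at hn
  have hn1 : n ≠ 1 := fun h => by rw [h] at hn; have := hp.two_le; omega
  have hprime : (2 ^ n - 1).Prime := by rwa [← hn, Nat.add_sub_cancel]
  have hnprime : n.Prime := (Nat.prime_of_pow_sub_one_prime hn1 hprime).2
  have hcommE : ∀ a ∈ E, ∀ b ∈ E, a * b = b * a := fun a ha b hb => by
    have h1 : a⁻¹ = a := inv_eq_of_mul_eq_one_right (hexp a ha)
    have h2 : b⁻¹ = b := inv_eq_of_mul_eq_one_right (hexp b hb)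
    have h3 : (a * b)⁻¹ = a * b := inv_eq_of_mul_eq_one_right (hexp _ (E.mul_mem ha hb))
    rw [mul_inv_rev, h1, h2] at h3
    exact h3.symm
  have hconj : ∀ (g : G), g • i = i → ∀ x : α, g * τ x * g⁻¹ = τ (g • x) := fun g gi x =>
    hτu _ _ (Subgroup.Normal.conj_mem inferInstance _ (hτE x) g) (by
      rw [mul_smul, mul_smul, inv_smul_eq_iff.mpr gi.symm, hτi])
  have hτadd : ∀ x y, τ (τ x • y) = τ x * τ y := fun x y =>
    (hτu _ _ (E.mul_mem (hτE x) (hτE y)) (by rw [mul_smul, hτi])).symm
  have hτ1 : τ i = 1 := (hτu _ _ E.one_mem (one_smul _ _)).symm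
  -- logarithms of the points other than `i`
  have hlex : ∀ x : α, ∃ k : ZMod p, x ≠ i → C.f k = x := fun x => by
    by_cases hx : x = i
    · exact ⟨0, fun h => absurd hx h⟩
    · obtain ⟨k, hk⟩ := C.f_surj x hx; exact ⟨k, fun _ => hk⟩
  choose l hl using hlex
  have hlf : ∀ k, l (C.f k) = k := fun k => C.f_inj (hl _ (C.f_ne k))
  let addX : α → α → α := fun x y => τ x • y
  let nr : ℕ → α → α := fun m x => Nat.rec i (fun _ ih => addX ih x) m
  letI iadd : AddCommGroup α :=
    { add := addX
      zero := i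
      neg := id
      nsmul := nr
      zsmul := fun m x => match m with
        | Int.ofNat k => nr k x
        | Int.negSucc k => id (nr (k + 1) x)
      add_assoc := fun x y z => by
        show τ (τ x • y) • z = τ x • τ y • z
        rw [hτadd, mul_smul]
      zero_add := fun x => by show τ i • x = x; rw [hτ1, one_smul]
      add_zero := fun x => hτi x
      neg_add_cancel := fun x => by
        show τ x • x = i
        calc τ x • x = τ x • τ x • i := by rw [hτi]
        _ = i := by rw [smul_smul, hexp _ (hτE x), one_smul]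
      add_comm := fun x y => by
        show τ x • y = τ y • x
        calc τ x • y = τ x • τ y • i := by rw [hτi]
        _ = τ y • τ x • i := by rw [smul_smul, smul_smul, hcommE _ (hτE x) _ (hτE y)]
        _ = τ y • x := by rw [hτi] }
  let oneX : α := C.f 0
  let mulX : α → α → α := fun x y => if x = i then i else C.tr (l x) • y
  have hmul1 : ∀ x y, x ≠ i → mulX x y = C.tr (l x) • y := fun x y h => if_neg h
  have hmul0 : ∀ y, mulX i y = i := fun y => if_pos rfl
  have hmulz : ∀ x, mulX x i = i := fun x => by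
    by_cases hx : x = i
    · rw [hx]; exact hmul0 i
    · rw [hmul1 x i hx, C.tr_fix]
  have hmulf : ∀ a b, mulX (C.f a) (C.f b) = C.f (a + b) := fun a b => by
    rw [hmul1 _ _ (C.f_ne a), hlf, C.tr_apply]
  have hcases : ∀ x : α, x = i ∨ ∃ k, x = C.f k := fun x => by
    by_cases hx : x = i
    · exact Or.inl hx
    · exact Or.inr ⟨l x, (hl x hx).symm⟩
  have hcomm : ∀ x y, mulX x y = mulX y x := fun x y => by
    rcases hcases x with rfl | ⟨a, rfl⟩
    · rw [hmul0, hmulz]
    rcases hcases y with rfl | ⟨b, rfl⟩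
    · rw [hmul0, hmulz]
    rw [hmulf, hmulf, add_comm]
  have hassoc : ∀ x y z, mulX (mulX x y) z = mulX x (mulX y z) := fun x y z => by
    rcases hcases x with rfl | ⟨a, rfl⟩
    · rw [hmul0, hmul0, hmul0]
    rcases hcases y with rfl | ⟨b, rfl⟩
    · rw [hmulz, hmul0, hmulz]
    rcases hcases z with rfl | ⟨c, rfl⟩
    · rw [hmulz, hmulz, hmulz]
    rw [hmulf, hmulf, hmulf, hmulf, add_assoc]
  have hone : ∀ x, mulX oneX x = x := fun x => by
    rw [hmul1 _ _ (C.f_ne 0), hlf, C.tr_zero, one_smul]
  have hdist : ∀ x y z : α, mulX x (addX y z) = addX (mulX x y) (mulX x z) := fun x y z => by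
    rcases hcases x with rfl | ⟨a, rfl⟩
    · rw [hmul0, hmul0, hmul0]
      exact (add_zero (0 : α)).symm
    rw [hmul1 _ _ (C.f_ne a), hmul1 _ _ (C.f_ne a), hmul1 _ _ (C.f_ne a), hlf]
    show C.tr a • τ y • z = τ (C.tr a • y) • C.tr a • z
    rw [← hconj _ (C.tr_fix a), mul_smul, mul_smul, inv_smul_smul]
  letI iring : CommRing α :=
    { iadd with
      mul := mulX
      one := oneX
      left_distrib := hdist
      right_distrib := fun x y z => by
        show mulX (addX x y) z = addX (mulX x z) (mulX y z)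
        rw [hcomm _ z, hdist, hcomm z x, hcomm z y]
      zero_mul := hmul0
      mul_zero := hmulz
      mul_assoc := hassoc
      one_mul := hone
      mul_one := fun x => (hcomm x oneX).trans (hone x)
      npow := fun m x => Nat.rec oneX (fun _ ih => mulX ih x) m
      mul_comm := hcomm }
  have hfield : IsField α :=
    { exists_pair_ne := ⟨i, oneX, (C.f_ne 0).symm⟩
      mul_comm := hcomm
      mul_inv_cancel := fun {x} hx => by
        obtain ⟨k, rfl⟩ := (hcases x).resolve_left hx
        refine ⟨C.f (-k), ?_⟩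
        show mulX _ _ = _
        rw [hmulf, add_neg_cancel]
        rfl }
  letI : Field α := hfield.toField
  letI : Fintype (GaloisField 2 n) := Fintype.ofFinite _
  let R : α ≃+* GaloisField 2 n := FiniteField.ringEquivOfCardEq (K := α) (K' := GaloisField 2 n) (by
    rw [hα, hn, ← GaloisField.card 2 n hnprime.ne_zero, Nat.card_eq_fintype_card])
  -- stabilisers of two points are automorphisms
  have hauto : ∀ h : G, h • i = i → h • C.f 0 = C.f 0 →
      ∃ φ : GaloisField 2 n ≃+* GaloisField 2 n, ∀ x, φ (R x) = R (h • x) := by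
    intro h hi h0
    obtain ⟨c, -, hc⟩ := C.exists_dil hi h0
    let ψ : α ≃+* α :=
      { MulAction.toPerm h with
        map_mul' := fun x y => by
          show h • mulX x y = mulX (h • x) (h • y)
          rcases hcases x with rfl | ⟨a, rfl⟩
          · rw [hmul0, hi, hmul0]
          rcases hcases y with rfl | ⟨b, rfl⟩
          · rw [hmulz, hi, hmulz]
          rw [hmulf, hc, hc, hc, hmulf, mul_add]
        map_add' := fun x y => by
          show h • τ x • y = τ (h • x) • h • y
          rw [← hconj h hi, mul_smul, mul_smul, inv_smul_smul] }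
    exact ⟨R.symm.trans (ψ.trans R), fun x => by simp; rfl⟩
  refine ⟨n, hnprime, hn, ?_, R.toEquiv, ?_⟩
  · obtain ⟨π, hπinj, hπ⟩ := C.exists_dilHom
    have hpow : ∀ h : ↥(stabilizer G i ⊓ stabilizer G (C.f 0)), h ^ n = 1 := by
      intro h
      obtain ⟨φ, hφ⟩ := hauto h (Subgroup.mem_inf.mp h.2).1 (Subgroup.mem_inf.mp h.2).2
      have key : ∀ (m : ℕ) (x : α), (φ ^ m) (R x) = R (((h ^ m : _) : G) • x) := by
        intro m
        induction m with
        | zero => intro x; simp
        | succ m ih =>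
          intro x
          rw [pow_succ, pow_succ, Subgroup.coe_mul, mul_smul]
          show (φ ^ m) (φ (R x)) = _
          rw [hφ, ih]
      refine Subtype.ext (perm_ext fun x => R.injective ?_)
      rw [← key, ringEquiv_pow_eq_one hnprime.ne_zero]
      simp
    have hcyc : IsCyclic ↥(stabilizer G i ⊓ stabilizer G (C.f 0)) :=
      isCyclic_of_injective π hπinj
    obtain ⟨g, hg⟩ := hcyc.exists_generator
    have hord : orderOf g = d := by
      rw [orderOf_eq_card_of_forall_mem_zpowers hg, C.card_stab]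
    have := orderOf_dvd_of_pow_eq_one (hpow g)
    rw [hord] at this
    exact (Nat.dvd_prime hnprime).mp this
  · intro g
    let T : Equiv.Perm α →* Equiv.Perm (GaloisField 2 n) := R.toEquiv.permCongrHom.toMonoidHom
    let S : Subgroup G := (Cfsg.semiaffineGroup (GaloisField 2 n)).comap (T.comp G.subtype)
    have hS : ∀ k : G, (∃ a : (GaloisField 2 n)ˣ, ∃ b, ∃ φ : GaloisField 2 n ≃+* GaloisField 2 n,
        ∀ x, R (k • x) = (a : GaloisField 2 n) * φ (R x) + b) → k ∈ S := by
      rintro k ⟨a, b, φ, hk⟩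
      refine ⟨a, b, φ, fun y => ?_⟩
      obtain ⟨x, rfl⟩ := R.surjective y
      rw [← hk]
      show R ((k : Equiv.Perm α) (R.symm (R x))) = _
      rw [RingEquiv.symm_apply_apply]
      rfl
    suffices hg : g ∈ S from hg
    have h1 : τ (g • i) ∈ S := hS _ ⟨1, R (g • i), RingEquiv.refl _, fun x => by
      rw [show τ (g • i) • x = g • i + x from rfl, map_add]; simp [add_comm]⟩
    set g₁ := (τ (g • i))⁻¹ * g
    have hg₁ : g₁ • i = i := by rw [mul_smul, inv_smul_eq_iff, hτi]
    have hg₁0 : g₁ • C.f 0 ≠ i := fun h => C.f_ne 0 (MulAction.injective g₁ (h.trans hg₁.symm))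
    set k := l (g₁ • C.f 0) with hk
    have h2 : C.tr k ∈ S := hS _ ⟨Units.mk0 (R (C.f k)) (by
        rw [Ne, map_eq_zero_iff R R.injective]; exact C.f_ne k), 0, RingEquiv.refl _, fun x => by
      rw [show C.tr k • x = C.f k * x from ((hmul1 _ x (C.f_ne k)).trans (by rw [hlf])).symm, map_mul]
      simp⟩
    set g₂ := (C.tr k)⁻¹ * g₁
    have hg₂ : g₂ • i = i := by rw [mul_smul, hg₁, inv_smul_eq_iff, C.tr_fix]
    have hg₂0 : g₂ • C.f 0 = C.f 0 := by
      rw [mul_smul, inv_smul_eq_iff, C.tr_apply, add_zero, hk, hl _ hg₁0]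
    obtain ⟨φ, hφ⟩ := hauto g₂ hg₂ hg₂0
    have h3 : g₂ ∈ S := hS _ ⟨1, 0, φ, fun x => by simp [hφ]⟩
    have := S.mul_mem h1 (S.mul_mem h2 h3)
    rwa [show τ (g • i) * (C.tr k * g₂) = g by simp [g₂, g₁]] at this

end Cfsg.Agent.PermGp.PrimeSucc
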