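import Cfsg.Agent.Lib.PermGp.PrimeSucc.Setup
import Cfsg.Agent.Lib.CT.Orthogonality
import Mathlib.Analysis.SpecialFunctions.Complex.CircleAddChar
import Mathlib.NumberTheory.LegendreSymbol.AddCharacter
import Mathlib.Analysis.RCLike.Basic

/-! The restriction of the irreducible characters to the translations. -/

set_option autoImplicit false
set_option linter.unusedSectionVars false

namespace Cfsg.Agent.PermGp.PrimeSucc

open MulAction Cfsg
open scoped ComplexConjugate

variable {α : Type*} [Fintype α] [DecidableEq α] {G : Subgroup (Equiv.Perm α)} {i : α} {p d : ℕ}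
  [hpf : Fact p.Prime]

namespace Coords

variable (C : Coords G i p d)

/-- The set of dilation factors. -/
noncomputable def dils (_C : Coords G i p d) : Finset (ZMod p) :=
  Finset.univ.filter fun c => c ^ d = 1

theorem card_dils : C.dils.card = d := by
  obtain ⟨π, hinj, hπ⟩ := C.exists_dilHom
  have hd : 0 < d := C.card_stab ▸ Nat.card_pos
  refine le_antisymm ?_ ?_
  · refine le_trans (Finset.card_le_card fun x hx => ?_)
      ((Multiset.toFinset_card_le _).trans (Polynomial.card_nthRoots d 1))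
    rw [Multiset.mem_toFinset, Polynomial.mem_nthRoots hd]
    exact (Finset.mem_filter.mp hx).2
  · have := Fintype.ofFinite ↥(stabilizer G i ⊓ stabilizer G (C.f 0))
    calc d = Finset.univ.card (α := ↥(stabilizer G i ⊓ stabilizer G (C.f 0))) := by
          rw [Finset.card_univ, ← Nat.card_eq_fintype_card, C.card_stab]
      _ ≤ _ := Finset.card_le_card_of_injOn (fun h => (π h : ZMod p)) (fun h _ => Finset.mem_filter.mpr
          ⟨Finset.mem_univ _, C.dil_pow (Subgroup.mem_inf.mp h.2).1 (Subgroup.mem_inf.mp h.2).2 (hπ h)⟩)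
          (fun a _ b _ e => hinj (Units.ext e))

theorem mem_dils {c : ZMod p} : c ∈ C.dils ↔ c ^ d = 1 := by simp [dils]

theorem affine_pow {g : G} (hi : g • i = i) {c b : ZMod p} (hg : ∀ x, g • C.f x = C.f (c * x + b)) :
    c ^ d = 1 := by
  refine C.dil_pow (g := C.tr (-b) * g) (by rw [mul_smul, hi, C.tr_fix])
    (by rw [mul_smul, hg, C.tr_apply]; congr 1; ring)
    (fun x => by rw [mul_smul, hg, C.tr_apply]; congr 1; ring)

theorem tr_inj : Function.Injective C.tr := fun a b h => by
  have := congrArg (fun g : G => g • C.f 0) h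
  simp only [C.tr_apply, add_zero] at this
  exact C.f_inj this

theorem tr_fix_only {u : ZMod p} (hu : u ≠ 0) {y : α} (h : C.tr u • y = y) : y = i := by
  by_contra hy
  obtain ⟨x, rfl⟩ := C.f_surj y hy
  rw [C.tr_apply] at h
  exact hu (by simpa using C.f_inj h)

theorem isConj_tr {u v : ZMod p} (hu : u ≠ 0) :
    IsConj (C.tr u) (C.tr v) ↔ ∃ c ∈ C.dils, v = u * c := by
  constructor
  · intro h
    obtain ⟨g, hg⟩ := isConj_iff.mp h
    have hgi : g • i = i := by
      have hv : v ≠ 0 := fun e => hu (C.tr_inj (by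
        rw [e, C.tr_zero] at hg
        rw [C.tr_zero]
        exact conj_eq_one_iff.mp hg))
      refine C.tr_fix_only hv ?_
      rw [← hg, mul_smul, mul_smul, inv_smul_smul, C.tr_fix]
    obtain ⟨c, b, -, hcb⟩ := C.affine g hgi
    refine ⟨c, C.mem_dils.mpr (C.affine_pow hgi hcb), ?_⟩
    have h1 : (g * C.tr u) • C.f 0 = (C.tr v * g) • C.f 0 := by rw [← hg]; group
    rw [mul_smul, mul_smul, C.tr_apply, hcb, hcb, C.tr_apply] at h1
    linear_combination -(C.f_inj h1)
  · rintro ⟨c, hc, rfl⟩
    obtain ⟨h, hi, -, hh⟩ := C.exists_of_pow (C.mem_dils.mp hc)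
    refine isConj_iff.mpr ⟨h, eq_comm.mp (eq_mul_inv_of_mul_eq ?_)⟩
    refine C.ext' (by rw [mul_smul, mul_smul, hi, C.tr_fix, C.tr_fix, hi]) fun x => ?_
    rw [mul_smul, mul_smul, hh, C.tr_apply, C.tr_apply, hh]
    congr 1; ring

theorem card_centralizer_tr {u : ZMod p} (hu : u ≠ 0) :
    Nat.card (Subgroup.centralizer ({C.tr u} : Set G)) = p := by
  have hmem : ∀ b, C.tr b ∈ Subgroup.centralizer ({C.tr u} : Set G) := fun b => by
    rw [Subgroup.mem_centralizer_singleton_iff, ← C.tr_add, ← C.tr_add, add_comm]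
  refine (Nat.card_eq_of_bijective (fun b => (⟨C.tr b, hmem b⟩ :
    Subgroup.centralizer ({C.tr u} : Set G))) ⟨fun a b h => C.tr_inj (congrArg Subtype.val h), ?_⟩).symm.trans
    (Nat.card_zmod p)
  rintro ⟨g, hg⟩
  rw [Subgroup.mem_centralizer_singleton_iff] at hg
  have hgi : g • i = i := by
    refine C.tr_fix_only hu ?_
    rw [← mul_smul, ← hg, mul_smul, C.tr_fix]
  obtain ⟨c, b, -, hcb⟩ := C.affine g hgi
  have h1 : (g * C.tr u) • C.f 0 = (C.tr u * g) • C.f 0 := by rw [hg]
  rw [mul_smul, mul_smul, C.tr_apply, hcb, hcb, C.tr_apply] at h1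
  have hc : c = 1 := by
    have := C.f_inj h1
    have h2 : (c - 1) * u = 0 := by linear_combination this
    exact sub_eq_zero.mp ((mul_eq_zero.mp h2).resolve_right hu)
  refine ⟨b, Subtype.ext (C.ext' (by rw [C.tr_fix, hgi]) fun x => ?_)⟩
  rw [hcb, hc, C.tr_apply, one_mul, add_comm]

end Coords

theorem conj_stdAddChar (x : ZMod p) : conj (ZMod.stdAddChar x) = ZMod.stdAddChar (-x) :=
  (AddChar.map_neg_eq_conj _ x).symm

theorem sum_stdAddChar (b : ZMod p) :
    ∑ x : ZMod p, ZMod.stdAddChar (x * b) = if b = 0 then (p : ℂ) else 0 := by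
  rw [AddChar.sum_mulShift b (ZMod.isPrimitive_stdAddChar p)]
  split_ifs <;> simp [ZMod.card]

namespace Coords

variable (C : Coords G i p d)

/-- The multiplicities of the characters of the translations. -/
theorem exists_mult (χ : IrrCharacter G) : ∃ n : ZMod p → ℕ,
    ∀ u, (χ : G → ℂ) (C.tr u) = ∑ k, (n k : ℂ) * ZMod.stdAddChar (k * u) := by
  classical
  obtain ⟨m, ρ, -, hρ⟩ := χ.2
  obtain ⟨ω, hω, hχ⟩ := CT.exists_eigenvalues ρ (C.tr 1)
  have htr : ∀ n : ℕ, C.tr (n : ZMod p) = C.tr 1 ^ n := by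
    intro n
    induction n with
    | zero => simp [C.tr_zero]
    | succ n ih => rw [Nat.cast_succ, C.tr_add, ih, pow_succ]
  have hord : C.tr 1 ^ p = 1 := by rw [← htr, ZMod.natCast_self, C.tr_zero]
  set ζ := (ZMod.stdAddChar (1 : ZMod p) : ℂ) with hζ
  have hζk : ∀ k : ℕ, ZMod.stdAddChar ((k : ZMod p)) = ζ ^ k := fun k => by
    rw [hζ, ← AddChar.map_nsmul_eq_pow, nsmul_one]
  have hprim : IsPrimitiveRoot ζ p := by
    rw [← orderOf_eq_prime (p := p) (x := ζ) (by rw [← hζk, ZMod.natCast_self, AddChar.map_zero_eq_one])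
      (fun h => one_ne_zero (ZMod.injective_stdAddChar (h.trans (AddChar.map_zero_eq_one _).symm)))]
    exact IsPrimitiveRoot.orderOf ζ
  have hk : ∀ j, ∃ k : ZMod p, ω j = ZMod.stdAddChar k := fun j => by
    obtain ⟨k, -, hk⟩ := hprim.eq_pow_of_pow_eq_one (ξ := ω j)
      (orderOf_dvd_iff_pow_eq_one.mp ((orderOf_dvd_of_pow_eq_one (hω j)).trans (orderOf_dvd_of_pow_eq_one hord)))
    exact ⟨k, by rw [hζk, hk]⟩
  choose k hk using hk
  refine ⟨fun c => (Finset.univ.filter fun j => k j = c).card, fun u => ?_⟩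
  rw [← ZMod.natCast_zmod_val u, htr, ← congrFun hρ, hχ]
  rw [← Finset.sum_fiberwise_of_maps_to (g := k) (t := Finset.univ) (fun x _ => Finset.mem_univ _)]
  refine Finset.sum_congr rfl fun c _ => ?_
  rw [Finset.sum_congr rfl (g := fun _ => (ZMod.stdAddChar (c * (u.val : ZMod p)) : ℂ)) fun j hj => ?_,
    Finset.sum_const, nsmul_eq_mul]
  rw [hk, (Finset.mem_filter.mp hj).2, ← AddChar.map_nsmul_eq_pow, nsmul_eq_mul, mul_comm]

/-- The multiplicity of the `k`-th character in the restriction of `χ` to the translations. -/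
noncomputable def tmult (χ : IrrCharacter G) : ZMod p → ℕ := (C.exists_mult χ).choose

theorem tmult_spec (χ : IrrCharacter G) (u : ZMod p) :
    (χ : G → ℂ) (C.tr u) = ∑ k, (C.tmult χ k : ℂ) * ZMod.stdAddChar (k * u) :=
  (C.exists_mult χ).choose_spec u

theorem sum_tmult (χ : IrrCharacter G) : (∑ k, (C.tmult χ k : ℂ)) = (χ : G → ℂ) 1 := by
  rw [← C.tr_zero, C.tmult_spec]
  simp

theorem tmult_eq (χ : IrrCharacter G) (k : ZMod p) :
    (p : ℂ) * C.tmult χ k = ∑ u, (χ : G → ℂ) (C.tr u) * ZMod.stdAddChar (-(k * u)) := by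
  simp only [C.tmult_spec, Finset.sum_mul]
  rw [Finset.sum_comm]
  have : ∀ l u : ZMod p, (C.tmult χ l : ℂ) * ZMod.stdAddChar (l * u) * ZMod.stdAddChar (-(k * u)) =
      (C.tmult χ l : ℂ) * ZMod.stdAddChar (u * (l - k)) := fun l u => by
    rw [mul_assoc, ← AddChar.map_add_eq_mul]; congr 2; ring
  simp only [this, ← Finset.mul_sum, sum_stdAddChar, sub_eq_zero, mul_ite, mul_zero,
    Finset.sum_ite_eq', Finset.mem_univ, if_true]
  ring

/-- Column orthogonality on the translations. -/
theorem column (hG : Nat.card G = (p + 1) * p * d) (u v : ZMod p) :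
    ∑ χ : IrrCharacter G, (χ : G → ℂ) (C.tr u) * conj ((χ : G → ℂ) (C.tr v)) =
      if u = 0 then (if v = 0 then (((p + 1) * p * d : ℕ) : ℂ) else 0)
      else (p : ℂ) * (C.dils.filter fun c => v = u * c).card := by
  classical
  rw [CT.column_orthogonality (G := G) (C.tr u) (C.tr v)]
  by_cases hu : u = 0
  · subst hu
    rw [if_pos rfl, C.tr_zero]
    by_cases hv : v = 0
    · subst hv
      rw [if_pos (C.tr_zero ▸ IsConj.refl _), if_pos rfl, ← hG]
      congr 1
      exact Nat.card_congr (Equiv.subtypeUnivEquiv fun g => by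
        rw [Subgroup.mem_centralizer_singleton_iff, mul_one, one_mul])
    · rw [if_neg hv, if_neg fun h => hv (C.tr_inj ((isConj_one_right.mp h).trans C.tr_zero.symm))]
  · rw [if_neg hu, C.card_centralizer_tr hu]
    by_cases h : IsConj (C.tr u) (C.tr v)
    · rw [if_pos h]
      obtain ⟨c, hc, rfl⟩ := (C.isConj_tr hu).mp h
      rw [show (C.dils.filter fun x => u * c = u * x) = {c} by
        ext x; simp only [Finset.mem_filter, Finset.mem_singleton]
        exact ⟨fun hx => (mul_left_cancel₀ hu hx.2).symm, fun hx => by subst hx; exact ⟨hc, rfl⟩⟩]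
      simp
    · rw [if_neg h, show (C.dils.filter fun x => v = u * x) = ∅ by
        ext x
        simp only [Finset.mem_filter, Finset.notMem_empty, iff_false, not_and]
        exact fun hx hv => h ((C.isConj_tr hu).mpr ⟨x, hx, hv⟩)]
      simp

/-- The Gram matrix of the multiplicities. -/
theorem gram (hG : Nat.card G = (p + 1) * p * d) (k l : ZMod p) :
    ∑ χ : IrrCharacter G, (C.tmult χ k : ℤ) * C.tmult χ l =
      d + (C.dils.filter fun j => j * l = k).card := by
  classical
  have hp0 : (p : ℂ) ≠ 0 := Nat.cast_ne_zero.mpr hpf.out.ne_zero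
  have key : (p : ℂ) * p * ∑ χ : IrrCharacter G, (C.tmult χ k : ℂ) * C.tmult χ l =
      (p : ℂ) * p * (d + (C.dils.filter fun j => j * l = k).card) := by
    have h : ∀ χ : IrrCharacter G, (p : ℂ) * p * ((C.tmult χ k : ℂ) * C.tmult χ l) =
        ∑ u, ∑ v, ((χ : G → ℂ) (C.tr u) * conj ((χ : G → ℂ) (C.tr v))) *
          (ZMod.stdAddChar (-(k * u)) * ZMod.stdAddChar (l * v)) := fun χ => by
      calc _ = ((p : ℂ) * C.tmult χ k) * conj ((p : ℂ) * C.tmult χ l) := by
            simp only [map_mul, map_natCast]; ring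
        _ = _ := by
            rw [C.tmult_eq, C.tmult_eq, map_sum, Finset.sum_mul_sum]
            simp only [map_mul, conj_stdAddChar, neg_neg]
            refine Finset.sum_congr rfl fun u _ => Finset.sum_congr rfl fun v _ => ?_
            ring
    rw [Finset.mul_sum, Finset.sum_congr rfl fun χ _ => h χ, Finset.sum_comm]
    simp only [Finset.sum_comm (s := (Finset.univ : Finset (IrrCharacter G))), ← Finset.sum_mul,
      C.column hG]
    have hv : ∀ u : ZMod p, (∑ v : ZMod p, (if u = 0 then (if v = 0 then (((p + 1) * p * d : ℕ) : ℂ) else 0)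
        else (p : ℂ) * (C.dils.filter fun c => v = u * c).card) *
          (ZMod.stdAddChar (-(k * u)) * ZMod.stdAddChar (l * v))) =
        (p : ℂ) * ∑ j ∈ C.dils, ZMod.stdAddChar (u * (j * l - k)) +
          if u = 0 then (p : ℂ) * p * d else 0 := by
      intro u
      by_cases hu : u = 0
      · subst hu
        simp only [if_true, ite_mul, zero_mul, Finset.sum_ite_eq', Finset.mem_univ]
        simp only [mul_zero, zero_mul, neg_zero, AddChar.map_zero_eq_one, mul_one, Finset.sum_const,
          C.card_dils, nsmul_eq_mul]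
        push_cast; ring
      · rw [if_neg hu, add_zero, Finset.mul_sum]
        simp only [if_neg hu, Finset.card_filter, Nat.cast_sum, Nat.cast_ite, Nat.cast_one, Nat.cast_zero,
          Finset.mul_sum, Finset.sum_mul]
        rw [Finset.sum_comm]
        refine Finset.sum_congr rfl fun j _ => ?_
        simp only [mul_ite, mul_one, mul_zero, ite_mul, zero_mul, Finset.sum_ite_eq', Finset.mem_univ,
          if_true]
        rw [← AddChar.map_add_eq_mul]
        congr 2; ring
    rw [Finset.sum_congr rfl fun u _ => hv u, Finset.sum_add_distrib, ← Finset.mul_sum, Finset.sum_comm]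
    simp only [sum_stdAddChar, sub_eq_zero, Finset.sum_ite_eq', Finset.mem_univ, if_true]
    rw [Finset.sum_ite, Finset.sum_const_zero, add_zero, Finset.sum_const, nsmul_eq_mul]
    ring
  have := mul_left_cancel₀ (mul_ne_zero hp0 hp0) key
  exact_mod_cast this

/-- The degrees are orthogonal to differences. -/
theorem gram_deg (hG : Nat.card G = (p + 1) * p * d) (k : ZMod p) :
    ∑ χ : IrrCharacter G, (C.tmult χ k : ℤ) * CT.deg (χ : G → ℂ) = ((p + 1) * d : ℕ) := by
  classical
  have h : ∀ χ : IrrCharacter G, (p : ℂ) * ((C.tmult χ k : ℂ) * (CT.deg (χ : G → ℂ) : ℂ)) =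
      ∑ u, ((χ : G → ℂ) (C.tr u) * conj ((χ : G → ℂ) (C.tr 0))) * ZMod.stdAddChar (-(k * u)) := fun χ => by
    rw [← mul_assoc, C.tmult_eq, Finset.sum_mul, C.tr_zero, CT.deg_eq (CT.isCharacter_of_isIrr χ.2)]
    refine Finset.sum_congr rfl fun u _ => ?_
    rw [map_natCast]; ring
  have key : (p : ℂ) * ∑ χ : IrrCharacter G, (C.tmult χ k : ℂ) * (CT.deg (χ : G → ℂ) : ℂ) =
      (p : ℂ) * (((p + 1) * d : ℕ) : ℂ) := by
    rw [Finset.mul_sum, Finset.sum_congr rfl fun χ _ => h χ, Finset.sum_comm]
    simp only [← Finset.sum_mul, C.column hG]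
    rw [Finset.sum_eq_single (0 : ZMod p)]
    · simp only [if_true, mul_zero, neg_zero, AddChar.map_zero_eq_one, mul_one]
      push_cast; ring
    · intro u _ hu
      rw [if_neg hu, Finset.filter_false_of_mem fun c hc e => ?_]
      · simp
      · rcases mul_eq_zero.mp e.symm with h' | h'
        · exact hu h'
        · have h1 := C.mem_dils.mp hc
          rw [h', zero_pow (by have := C.card_stab ▸ Nat.card_pos (α := ↥(stabilizer G i ⊓ stabilizer G (C.f 0))); omega)] at h1
          exact zero_ne_one h1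
    · simp
  have := mul_left_cancel₀ (Nat.cast_ne_zero.mpr hpf.out.ne_zero) key
  exact_mod_cast this

/-- The multiplicities are constant on cosets of the dilations. -/
theorem tmult_mul (hG : Nat.card G = (p + 1) * p * d) {c : ZMod p} (hc : c ∈ C.dils) {k : ZMod p}
    (hk : k ≠ 0) (χ : IrrCharacter G) : C.tmult χ (c * k) = C.tmult χ k := by
  have hc' := C.mem_dils.mp hc
  have hone : ∀ a b : ZMod p, b ≠ 0 → ∀ j ∈ C.dils, j * b = a →
      (C.dils.filter fun x => x * b = a).card = 1 := fun a b hb j hj hja => by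
    rw [show (C.dils.filter fun x => x * b = a) = {j} by
      ext x; simp only [Finset.mem_filter, Finset.mem_singleton]
      exact ⟨fun hx => mul_right_cancel₀ hb (hx.2.trans hja.symm), fun hx => by subst hx; exact ⟨hj, hja⟩⟩,
      Finset.card_singleton]
  have hd : 0 < d := C.card_stab ▸ Nat.card_pos
  have hc0 : c ≠ 0 := fun e => by rw [e, zero_pow hd.ne'] at hc'; exact zero_ne_one hc'
  have h1 : (1 : ZMod p) ∈ C.dils := C.mem_dils.mpr (one_pow d)
  have hz : ∑ χ : IrrCharacter G, ((C.tmult χ (c * k) : ℤ) - C.tmult χ k) ^ 2 = 0 := by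
    simp only [show ∀ a b : ℤ, (a - b) ^ 2 = a * a - 2 * (a * b) + b * b from fun a b => by ring,
      Finset.sum_add_distrib, Finset.sum_sub_distrib, ← Finset.mul_sum, C.gram hG]
    rw [hone (c * k) (c * k) (mul_ne_zero hc0 hk) 1 h1 (one_mul _), hone (c * k) k hk c hc rfl,
      hone k k hk 1 h1 (one_mul _)]
    push_cast; ring
  have := (Finset.sum_eq_zero_iff_of_nonneg (fun x _ => sq_nonneg _)).mp hz χ (Finset.mem_univ _)
  have := pow_eq_zero_iff (by norm_num : (2 : ℕ) ≠ 0) |>.mp this
  omega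

end Coords

end Cfsg.Agent.PermGp.PrimeSucc
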