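import Cfsg.Agent.Lib.PermGp.PrimeSucc.Fourier
import Cfsg.Agent.Lib.CT.Induced
import Mathlib.RingTheory.RootsOfUnity.Complex

/-! The characters induced from the stabiliser of a point, when the involution inverts the dilations. -/

set_option autoImplicit false
set_option linter.unusedSectionVars false

namespace Cfsg.Agent.PermGp.PrimeSucc

open MulAction Cfsg
open scoped ComplexConjugate

variable {α : Type*} [Fintype α] [DecidableEq α] {G : Subgroup (Equiv.Perm α)} {i : α} {p d : ℕ}
  [hpf : Fact p.Prime]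

/-- An embedding of the units modulo `p` into the complex units. -/
theorem exists_injective_units : ∃ ω : (ZMod p)ˣ →* ℂˣ, Function.Injective ω := by
  have : NeZero (p - 1) := ⟨by have := hpf.out.two_le; omega⟩
  let e : (ZMod p)ˣ ≃* rootsOfUnity (p - 1) ℂ := mulEquivOfCyclicCardEq (by
    rw [Nat.card_eq_fintype_card, ZMod.card_units, Complex.card_rootsOfUnity])
  exact ⟨(rootsOfUnity (p - 1) ℂ).subtype.comp e.toMonoidHom, fun a b h => e.injective (Subtype.ext h)⟩

theorem conj_unit_hom {H : Type*} [Group H] [Finite H] (φ : H →* ℂˣ) (x : H) :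
    conj (φ x : ℂ) = (φ x⁻¹ : ℂ) := by
  have h : (φ x : ℂ) ^ Nat.card H = 1 := by
    rw [← Units.val_pow_eq_pow_val, ← map_pow, pow_card_eq_one', map_one, Units.val_one]
  rw [CT.conj_of_pow_eq_one Nat.card_pos.ne' h, map_inv]
  apply mul_left_cancel₀ (φ x).ne_zero
  rw [Units.mul_inv, ← pow_succ', Nat.sub_add_cancel Nat.card_pos, h]

namespace Coords

variable (C : Coords G i p d)

/-- The linear part of the stabiliser. -/
theorem exists_affHom : ∃ π : stabilizer G i →* (ZMod p)ˣ,
    ∀ b : stabilizer G i, ∃ o : ZMod p, ∀ x, (b : G) • C.f x = C.f ((π b : ZMod p) * x + o) := by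
  choose c o hc hco using fun b : stabilizer G i => C.affine (b : G) b.2
  refine ⟨MonoidHom.mk' (fun b => Units.mk0 (c b) (hc b)) fun a b => Units.ext ?_, fun b => ⟨o b, hco b⟩⟩
  show c (a * b) = c a * c b
  have h : ∀ x, c (a * b) * x + o (a * b) = c a * (c b * x + o b) + o a := fun x => C.f_inj (by
    rw [← hco (a * b), ← hco a, ← hco b, Subgroup.coe_mul, mul_smul])
  linear_combination h 1 - h 0

/-- The linear part of an element of the stabiliser of `i`. -/
noncomputable def lin : stabilizer G i →* (ZMod p)ˣ := C.exists_affHom.choose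

theorem lin_spec (b : stabilizer G i) : ∃ o : ZMod p, ∀ x, (b : G) • C.f x = C.f ((C.lin b : ZMod p) * x + o) :=
  C.exists_affHom.choose_spec b

theorem lin_eq {b : stabilizer G i} {c o : ZMod p} (h : ∀ x, (b : G) • C.f x = C.f (c * x + o)) :
    (C.lin b : ZMod p) = c := by
  obtain ⟨o', ho⟩ := C.lin_spec b
  have h' : ∀ x, (C.lin b : ZMod p) * x + o' = c * x + o := fun x => C.f_inj ((ho x).symm.trans (h x))
  linear_combination h' 1 - h' 0

theorem lin_tr (u : ZMod p) : C.lin ⟨C.tr u, C.tr_fix u⟩ = 1 :=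
  Units.ext (C.lin_eq (o := u) fun x => by
    show C.tr u • C.f x = _
    rw [C.tr_apply, Units.val_one, one_mul, add_comm])

theorem eq_tr_of_lin {b : stabilizer G i} (h : C.lin b = 1) : ∃ u, (b : G) = C.tr u := by
  obtain ⟨o, ho⟩ := C.lin_spec b
  refine ⟨o, C.ext' (by rw [C.tr_fix]; exact b.2) fun x => ?_⟩
  rw [ho, h, C.tr_apply, Units.val_one, one_mul, add_comm]

theorem lin_pow (b : stabilizer G i) : C.lin b ^ d = 1 := by
  obtain ⟨o, ho⟩ := C.lin_spec b
  exact Units.ext (by rw [Units.val_pow_eq_pow_val, Units.val_one]; exact C.affine_pow b.2 ho)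

theorem sum_kernel [Fintype (stabilizer G i)] [DecidableEq (stabilizer G i)] {M : Type*}
    [AddCommMonoid M] (F : stabilizer G i → M) :
    ∑ b, (if C.lin b = 1 then F b else 0) = ∑ u, F ⟨C.tr u, C.tr_fix u⟩ := by
  rw [← Finset.sum_filter]
  symm
  refine Finset.sum_nbij (fun u => ⟨C.tr u, C.tr_fix u⟩)
    (fun u _ => Finset.mem_filter.mpr ⟨Finset.mem_univ _, C.lin_tr u⟩)
    (fun a _ b _ h => C.tr_inj (congrArg Subtype.val h)) (fun b hb => ?_) (fun u _ => rfl)
  obtain ⟨u, hu⟩ := C.eq_tr_of_lin (Finset.mem_filter.mp hb).2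
  exact ⟨u, Finset.mem_univ _, Subtype.ext hu.symm⟩

include C in
theorem card_stabilizer_i (hα : Fintype.card α = p + 1) (hG : Nat.card G = (p + 1) * p * d) :
    Nat.card (stabilizer G i) = p * d := by
  have := C.two_trans
  have : IsPretransitive G α := isPretransitive_of_is_two_pretransitive
  have h := card_mul_card_stabilizer (G := G) i
  rw [hG, Nat.card_eq_fintype_card (α := α), hα, mul_assoc] at h
  exact Nat.eq_of_mul_eq_mul_left (by omega) h

/-- The induced character, restricted to the stabiliser. -/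
theorem indFun_stab [Fintype G] {w : G} (hwi : w • i = C.f 0) (hw0 : w • C.f 0 = i)
    (hinv : ∀ (h : G) (c : ZMod p), h • i = i → h • C.f 0 = C.f 0 → (∀ x, h • C.f x = C.f (c * x)) →
      ∀ x, (w⁻¹ * h * w) • C.f x = C.f (c⁻¹ * x))
    (φ : (ZMod p)ˣ →* ℂˣ) (b : stabilizer G i) [Fintype (stabilizer G i)] :
    indFun (stabilizer G i) (fun b => (φ (C.lin b) : ℂ)) (b : G) =
      (φ (C.lin b) : ℂ) + if C.lin b = 1 then (if b = 1 then (p : ℂ) else 0) else ((φ (C.lin b))⁻¹ : ℂˣ) := by
  classical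
  set θ : stabilizer G i → ℂ := fun b => (φ (C.lin b) : ℂ) with hθ
  let r : Option (ZMod p) → G := fun y => y.elim 1 fun u => C.tr u * w
  let pt : Option (ZMod p) → α := fun y => y.elim i C.f
  have hr : ∀ y, r y • i = pt y := by
    rintro (_ | u)
    · exact one_smul _ _
    · show (C.tr u * w) • i = C.f u
      rw [mul_smul, hwi, C.tr_apply, add_zero]
  have hpt : Function.Bijective pt := by
    refine ⟨?_, fun x => ?_⟩
    · rintro (_ | u) (_ | v) h
      · rfl
      · exact absurd h.symm (C.f_ne v)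
      · exact absurd h (C.f_ne u)
      · exact congrArg some (C.f_inj h)
    · by_cases hx : x = i
      · exact ⟨none, hx.symm⟩
      · obtain ⟨u, hu⟩ := C.f_surj x hx; exact ⟨some u, hu⟩
  have hbij : Function.Bijective fun q : Option (ZMod p) × stabilizer G i => r q.1 * q.2 := by
    constructor
    · rintro ⟨y, h⟩ ⟨y', h'⟩ e
      have e1 := congrArg (fun g : G => g • i) e
      simp only [mul_smul, mem_stabilizer_iff.mp h.2, mem_stabilizer_iff.mp h'.2, hr] at e1
      obtain rfl := hpt.1 e1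
      exact Prod.ext rfl (Subtype.ext (mul_left_cancel e))
    · intro g
      obtain ⟨y, hy⟩ := hpt.2 (g • i)
      exact ⟨(y, ⟨(r y)⁻¹ * g, by rw [mem_stabilizer_iff, mul_smul, inv_smul_eq_iff, hr, hy]⟩),
        mul_inv_cancel_left _ _⟩
  have hconj : ∀ (a : G) (h : stabilizer G i),
      extendByZero (stabilizer G i) θ ((h : G)⁻¹ * a * h) = extendByZero (stabilizer G i) θ a := by
    intro a h
    by_cases ha : a ∈ stabilizer G i
    · rw [CT.extendByZero_mem _ _ ((stabilizer G i).mul_mem ((stabilizer G i).mul_mem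
        ((stabilizer G i).inv_mem h.2) ha) h.2), CT.extendByZero_mem _ _ ha]
      show (φ (C.lin (h⁻¹ * ⟨a, ha⟩ * h)) : ℂ) = φ (C.lin ⟨a, ha⟩)
      simp [mul_right_comm]
    · rw [CT.extendByZero_not_mem _ _ ha, CT.extendByZero_not_mem _ _ fun h' => ha ?_]
      have := (stabilizer G i).mul_mem ((stabilizer G i).mul_mem h.2 h') ((stabilizer G i).inv_mem h.2)
      simpa [mul_assoc] using this
  rw [indFun, ← hbij.sum_comp (g := fun x => extendByZero (stabilizer G i) θ (x⁻¹ * (b : G) * x)),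
    Fintype.sum_prod_type]
  have hrow : ∀ (y : Option (ZMod p)), ∑ h : stabilizer G i,
      extendByZero (stabilizer G i) θ ((r y * (h : G))⁻¹ * (b : G) * (r y * h)) =
      (Nat.card (stabilizer G i) : ℂ) * extendByZero (stabilizer G i) θ ((r y)⁻¹ * b * r y) := fun y => by
    rw [Finset.sum_congr rfl (g := fun _ => extendByZero (stabilizer G i) θ ((r y)⁻¹ * b * r y)) fun h _ => ?_,
      Finset.sum_const, Finset.card_univ, ← Nat.card_eq_fintype_card, nsmul_eq_mul]
    rw [← hconj ((r y)⁻¹ * b * r y) h]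
    congr 1
  simp only [hrow, ← Finset.mul_sum]
  rw [← mul_assoc, inv_mul_cancel₀ (Nat.cast_ne_zero.mpr Nat.card_pos.ne'), one_mul, Fintype.sum_option,
    show r none = 1 from rfl, inv_one, one_mul, mul_one, CT.extendByZero_coe]
  congr 1
  obtain ⟨o, ho⟩ := C.lin_spec b
  have hnot : ∀ u : ZMod p, (C.lin b : ZMod p) * u + o ≠ u →
      extendByZero (stabilizer G i) θ ((r (some u))⁻¹ * b * r (some u)) = 0 := fun u hu => by
    refine CT.extendByZero_not_mem _ _ fun h => hu ?_
    rw [mem_stabilizer_iff, mul_smul, mul_smul, inv_smul_eq_iff, hr] at h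
    exact C.f_inj ((ho u).symm.trans h)
  by_cases hlin : C.lin b = 1
  · rw [if_pos hlin]
    obtain ⟨v, hv⟩ := C.eq_tr_of_lin hlin
    by_cases hb : b = 1
    · subst hb
      simp [hθ, CT.extendByZero_mem _ _ (Subgroup.one_mem (stabilizer G i))]
      rw [show (⟨1, Subgroup.one_mem _⟩ : stabilizer G i) = 1 from rfl, map_one, map_one, Units.val_one,
        mul_one]
    · rw [if_neg hb]
      refine Finset.sum_eq_zero fun u _ => hnot u fun h => hb (Subtype.ext ?_)
      have h0 : o = v := C.f_inj (by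
        have := (ho 0).symm.trans (by rw [hv, C.tr_apply] : (b : G) • C.f 0 = C.f (v + 0))
        simpa using this)
      rw [hlin, Units.val_one, one_mul] at h
      rw [hv, ← h0, show o = 0 by linear_combination h, C.tr_zero]
      rfl
  · rw [if_neg hlin]
    have hne : (C.lin b : ZMod p) - 1 ≠ 0 := fun h => hlin (Units.ext (sub_eq_zero.mp h))
    set u₀ := -o / ((C.lin b : ZMod p) - 1) with hu₀
    have hu : (C.lin b : ZMod p) * u₀ + o = u₀ := by
      rw [hu₀]; field_simp; ring
    rw [Fintype.sum_eq_single u₀ fun u hu' => hnot u fun h => hu' (by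
      have h2 : ((C.lin b : ZMod p) - 1) * (u - u₀) = 0 := by linear_combination h - hu
      exact sub_eq_zero.mp ((mul_eq_zero.mp h2).resolve_left hne))]
    set h : G := (C.tr u₀)⁻¹ * b * C.tr u₀ with hh
    have hhi : h • i = i := by
      rw [hh, mul_smul, mul_smul, C.tr_fix, mem_stabilizer_iff.mp b.2, inv_smul_eq_iff, C.tr_fix]
    have hhx : ∀ x, h • C.f x = C.f ((C.lin b : ZMod p) * x) := fun x => by
      rw [hh, mul_smul, mul_smul, C.tr_apply, ho, inv_smul_eq_iff, C.tr_apply]
      congr 1; linear_combination hu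
    have hh0 : h • C.f 0 = C.f 0 := by rw [hhx, mul_zero]
    have hg : (r (some u₀))⁻¹ * (b : G) * r (some u₀) = w⁻¹ * h * w := by
      show (C.tr u₀ * w)⁻¹ * (b : G) * (C.tr u₀ * w) = _
      rw [hh]; group
    have hgi : (w⁻¹ * h * w) • i = i := by
      rw [mul_smul, mul_smul, hwi, hh0, inv_smul_eq_iff, hwi]
    rw [hg, CT.extendByZero_mem _ _ (mem_stabilizer_iff.mpr hgi)]
    show (φ (C.lin ⟨_, _⟩) : ℂ) = _
    rw [← map_inv]
    congr 2
    refine Units.ext ?_
    rw [Units.val_inv_eq_inv_val]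
    exact C.lin_eq (o := 0) fun x => by
      rw [add_zero]; exact hinv h _ hhi hh0 hhx x

/-- The special rows: the constituents of the characters induced from the stabiliser. -/
theorem special_rows [Fintype G] [DecidableEq (IrrCharacter G)] (hα : Fintype.card α = p + 1) (hG : Nat.card G = (p + 1) * p * d) (hodd : Odd d)
    {w : G} (hwi : w • i = C.f 0) (hw0 : w • C.f 0 = i)
    (hinv : ∀ (h : G) (c : ZMod p), h • i = i → h • C.f 0 = C.f 0 → (∀ x, h • C.f x = C.f (c * x)) →
      ∀ x, (w⁻¹ * h * w) • C.f x = C.f (c⁻¹ * x)) :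
    ∃ ψ : IrrCharacter G, C.tmult ψ 0 ≠ 0 ∧ ∀ χ : IrrCharacter G, C.tmult χ 0 ≠ 0 →
      ∀ k k' : ZMod p, k ≠ 0 → k' ≠ 0 → C.tmult χ k = C.tmult χ k' ∧
        2 * ((C.tmult χ k : ℤ) * C.tmult χ k) - (C.tmult χ 0 : ℤ) * C.tmult χ k =
          if χ = ψ then 1 else 0 := by
  classical
  have hp := hpf.out
  have hp0 : (p : ℂ) ≠ 0 := Nat.cast_ne_zero.mpr hp.ne_zero
  have hd : 0 < d := C.card_stab ▸ Nat.card_pos
  set B := stabilizer G i with hB
  have hBcard : Nat.card B = p * d := C.card_stabilizer_i hα hG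
  have hBindex : B.index = p + 1 := by
    have h := B.card_mul_index
    rw [hBcard, hG, show (p + 1) * p * d = p * d * (p + 1) by ring] at h
    exact Nat.eq_of_mul_eq_mul_left (Nat.mul_pos hp.pos hd) h
  obtain ⟨ω, hω⟩ := exists_injective_units (p := p)
  let Λ : ℕ → B →* ℂˣ := fun j => ((powMonoidHom j).comp ω).comp C.lin
  let I : ℕ → G → ℂ := fun j => indFun B fun b => (Λ j b : ℂ)
  have hIchar : ∀ j, IsCharacter G (I j) := fun j => CT.isCharacter_indFun B (CT.isCharacter_lin (Λ j))
  have hΛker : ∀ j b, C.lin b = 1 → (Λ j b : ℂ) = 1 := fun j b h => by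
    simp [Λ, h]
  have hIb : ∀ j (b : B), I j (b : G) = (Λ j b : ℂ) +
      if C.lin b = 1 then (if b = 1 then (p : ℂ) else 0) else ((Λ j b)⁻¹ : ℂˣ) :=
    fun j b => C.indFun_stab hwi hw0 hinv ((powMonoidHom j).comp ω) b
  have hItr : ∀ j u, I j (C.tr u) = 1 + if u = 0 then (p : ℂ) else 0 := fun j u => by
    have := hIb j ⟨C.tr u, C.tr_fix u⟩
    rw [if_pos (C.lin_tr u), hΛker j _ (C.lin_tr u)] at this
    rw [this]
    congr 1
    refine if_congr ⟨fun h => C.tr_inj ((congrArg Subtype.val h).trans C.tr_zero.symm), fun h => ?_⟩ rfl rfl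
    subst h
    exact Subtype.ext C.tr_zero
  -- sums over the stabiliser
  have havg : ∀ m : ℕ, ∑ b : B, (Λ m b : ℂ) = if d ∣ m then (p * d : ℂ) else 0 := by
    intro m
    split_ifs with hm
    · obtain ⟨k, rfl⟩ := hm
      have : ∀ b : B, (Λ (d * k) b : ℂ) = 1 := fun b => by
        show (((ω (C.lin b)) ^ (d * k) : ℂˣ) : ℂ) = 1
        rw [pow_mul, ← map_pow, C.lin_pow, map_one, one_pow, Units.val_one]
      simp [this, ← Nat.card_eq_fintype_card, hBcard]
    · obtain ⟨b₀, hb₀⟩ : ∃ b₀ : B, Λ m b₀ ≠ 1 := by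
        by_contra! hall
        refine hm ?_
        have hsub : C.dils ⊆ Finset.univ.filter fun c : ZMod p => c ^ m = 1 := fun c hc => by
          obtain ⟨h, hi, -, hh⟩ := C.exists_of_pow (C.mem_dils.mp hc)
          have h1 := hall ⟨h, hi⟩
          have h2 : C.lin ⟨h, hi⟩ ^ m = 1 := hω (by rw [map_pow, map_one]; exact h1)
          have h3 := congrArg Units.val h2
          rw [Units.val_pow_eq_pow_val, C.lin_eq (b := ⟨h, hi⟩) (o := 0) (fun x => by rw [add_zero]; exact hh x),
            Units.val_one] at h3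
          exact Finset.mem_filter.mpr ⟨Finset.mem_univ _, h3⟩
        have hg : C.dils ⊆ (Polynomial.nthRoots (Nat.gcd m d) (1 : ZMod p)).toFinset := fun c hc => by
          rw [Multiset.mem_toFinset, Polynomial.mem_nthRoots (Nat.gcd_pos_of_pos_right _ hd)]
          exact pow_gcd_eq_one.mpr ⟨(Finset.mem_filter.mp (hsub hc)).2, C.mem_dils.mp hc⟩
        have := (Finset.card_le_card hg).trans ((Multiset.toFinset_card_le _).trans (Polynomial.card_nthRoots _ _))
        rw [C.card_dils] at this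
        have hle := Nat.le_antisymm (Nat.le_of_dvd hd (Nat.gcd_dvd_right m d)) this
        rw [← hle]; exact Nat.gcd_dvd_left m d
      have hsum : (Λ m b₀ : ℂ) * ∑ b : B, (Λ m b : ℂ) = ∑ b : B, (Λ m b : ℂ) := by
        rw [Finset.mul_sum]
        exact Fintype.sum_equiv (Equiv.mulLeft b₀) _ _ fun b => by simp
      by_contra hne
      exact hb₀ (Units.ext ((mul_eq_right₀ hne).mp hsum))
  have hkerp : ∑ b : B, (if C.lin b = 1 then ((if b = 1 then (p : ℂ) else 0) - 1) else 0) = 0 := by
    rw [C.sum_kernel (fun b : B => (if b = 1 then (p : ℂ) else 0) - 1), Finset.sum_sub_distrib,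
      Fintype.sum_eq_single (0 : ZMod p) fun u hu => if_neg fun h =>
        hu (C.tr_inj ((congrArg Subtype.val h).trans C.tr_zero.symm)),
      if_pos (Subtype.ext C.tr_zero)]
    simp
  have hinner : ∀ j, j < d → classInner (I j) (I j) = if j = 0 then 2 else 1 := fun j hj => by
    rw [CT.frobenius_reciprocity B _ (CT.isClassFunction_indFun B _), classInner]
    have hterm : ∀ b : B, (Λ j b : ℂ) * conj (I j (b : G)) = 1 + (Λ (2 * j) b : ℂ) +
        if C.lin b = 1 then ((if b = 1 then (p : ℂ) else 0) - 1) else 0 := fun b => by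
      have hsq : (Λ j b : ℂ) * Λ j b = Λ (2 * j) b := by
        show ((ω (C.lin b) ^ j : ℂˣ) : ℂ) * ((ω (C.lin b) ^ j : ℂˣ) : ℂ) = ((ω (C.lin b) ^ (2 * j) : ℂˣ) : ℂ)
        rw [← Units.val_mul, ← pow_add, two_mul]
      rw [hIb, map_add, mul_add, conj_unit_hom, map_inv, Units.mul_inv]
      by_cases h : C.lin b = 1
      · rw [if_pos h, if_pos h, hΛker _ _ h, hΛker _ _ h]
        split_ifs <;> simp
      · rw [if_neg h, if_neg h, ← map_inv (Λ j), conj_unit_hom, inv_inv, hsq, add_zero]
    rw [Finset.sum_congr rfl fun b _ => hterm b, Finset.sum_add_distrib, Finset.sum_add_distrib,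
      Finset.sum_const, Finset.card_univ, ← Nat.card_eq_fintype_card, hkerp, havg, hBcard, nsmul_eq_mul,
      mul_one, add_zero]
    have hdvd : d ∣ 2 * j ↔ j = 0 := by
      refine ⟨fun h => ?_, fun h => by simp [h]⟩
      have h2 : d ∣ j := (Nat.Coprime.dvd_of_dvd_mul_left
        (Nat.coprime_two_right.mpr hodd) h)
      exact Nat.eq_zero_of_dvd_of_lt h2 hj
    have hne : (p * d : ℂ) ≠ 0 := mul_ne_zero hp0 (Nat.cast_ne_zero.mpr hd.ne')
    simp only [hdvd]
    have hd0 : (d : ℂ) ≠ 0 := Nat.cast_ne_zero.mpr hd.ne'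
    split_ifs <;> push_cast <;> field_simp <;> ring
  have hI0 : classInner (I 0) (fun _ : G => (1 : ℂ)) = 1 := by
    rw [CT.frobenius_reciprocity B _ (fun _ _ => rfl), classInner]
    simp [Λ, ← Nat.card_eq_fintype_card, hBcard]
    have hd0 : (d : ℂ) ≠ 0 := Nat.cast_ne_zero.mpr hd.ne'
    field_simp
  -- the second constituent of the permutation character
  set P := I 0 - fun _ : G => (1 : ℂ) with hP
  have hPirr : IsIrrCharacter G P := by
    refine CT.isIrr_of_isGen_norm_one
      (CT.isGen_sub (CT.isGen_of_isCharacter (hIchar 0)) (CT.isGen_of_isCharacter CT.isCharacter_one)) ?_ ?_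
    · rw [hP, CT.classInner_sub_left, CT.classInner_sub_right, CT.classInner_sub_right, hinner 0 hd,
        ← CT.classInner_conj_symm (I 0) (fun _ : G => (1 : ℂ)), hI0,
        CT.irr_inner_self CT.isIrrCharacter_one, map_one, if_pos rfl]
      ring
    · have h1 : P 1 = (p : ℂ) := by
        show I 0 1 - 1 = _
        rw [← C.tr_zero, hItr, if_pos rfl]; ring
      rw [h1, Complex.natCast_re]
      exact_mod_cast hp.pos
  have hmult : ∀ (χ : IrrCharacter G) (a b : ℂ), (∀ u, (χ : G → ℂ) (C.tr u) = a + if u = 0 then b else 0) →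
      ∀ k, (p : ℂ) * C.tmult χ k = (if k = 0 then (p : ℂ) * a else 0) + b := by
    intro χ a b h k
    rw [C.tmult_eq]
    simp only [h, add_mul, Finset.sum_add_distrib, ite_mul, zero_mul, Finset.sum_ite_eq', Finset.mem_univ,
      if_true, mul_zero, neg_zero, AddChar.map_zero_eq_one, mul_one, ← Finset.mul_sum]
    congr 1
    have : ∑ u : ZMod p, ZMod.stdAddChar (-(k * u)) = if k = 0 then (p : ℂ) else 0 := by
      have h := sum_stdAddChar (p := p) (-k)
      simp only [neg_eq_zero] at h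
      rw [← h]
      exact Finset.sum_congr rfl fun u _ => by congr 1; ring
    rw [this]; split_ifs <;> ring
  let ψ : IrrCharacter G := ⟨P, hPirr⟩
  have hψk : ∀ k, C.tmult ψ k = 1 := fun k => by
    have h := hmult ψ 0 p (fun u => by
      show I 0 (C.tr u) - 1 = _
      rw [hItr]; ring) k
    rw [mul_zero, ite_self, zero_add] at h
    exact_mod_cast mul_left_cancel₀ hp0 (h.trans (mul_one _).symm)
  refine ⟨ψ, by rw [hψk]; norm_num, fun χ hχ k k' hk hk' => ?_⟩
  by_cases hχψ : χ = ψ
  · subst hχψ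
    rw [hψk, hψk, hψk]
    simp
  rw [if_neg hχψ]
  obtain ⟨j, hj, hne⟩ : ∃ j ∈ Finset.range d, classInner (I j) (χ : G → ℂ) ≠ 0 := by
    refine Finset.exists_ne_zero_of_sum_ne_zero ?_
    have hterm : ∀ j, classInner (I j) (χ : G → ℂ) =
        (Nat.card B : ℂ)⁻¹ * ∑ b : B, (Λ j b : ℂ) * conj ((χ : G → ℂ) b) := fun j =>
      CT.frobenius_reciprocity B _ (CT.isClassFunction_of_isIrr χ.2)
    have hgeom : ∀ b : B, ∑ j ∈ Finset.range d, (Λ j b : ℂ) = if C.lin b = 1 then (d : ℂ) else 0 := fun b => by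
      have h1 : ∀ j, (Λ j b : ℂ) = (ω (C.lin b) : ℂ) ^ j := fun j => Units.val_pow_eq_pow_val _ _
      simp only [h1]
      split_ifs with h
      · simp [h]
      · rw [geom_sum_eq (fun e => h (hω (Units.ext (e.trans (by simp))))), ← Units.val_pow_eq_pow_val,
          ← map_pow, C.lin_pow]
        simp
    simp only [hterm, ← Finset.mul_sum]
    rw [Finset.sum_comm]
    simp only [← Finset.sum_mul, hgeom, ite_mul, zero_mul]
    rw [C.sum_kernel, ← Finset.mul_sum]
    have h0 : ∑ u : ZMod p, conj ((χ : G → ℂ) (C.tr u)) = (p : ℂ) * C.tmult χ 0 := by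
      rw [← map_sum, show ∑ u : ZMod p, (χ : G → ℂ) (C.tr u) = (p : ℂ) * C.tmult χ 0 by
        rw [C.tmult_eq]; simp]
      simp
    rw [h0, hBcard]
    have : (C.tmult χ 0 : ℂ) ≠ 0 := Nat.cast_ne_zero.mpr hχ
    have : (d : ℂ) ≠ 0 := Nat.cast_ne_zero.mpr hd.ne'
    push_cast
    simp_all
  have hjd := Finset.mem_range.mp hj
  by_cases hj0 : j = 0
  · subst hj0
    have hone : (χ : G → ℂ) = fun _ => 1 := by
      by_contra h
      refine hne ?_
      rw [show I 0 = P + fun _ : G => (1 : ℂ) by rw [hP, sub_add_cancel], CT.classInner_add_left,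
        CT.irr_inner_of_ne hPirr χ.2 (fun e => hχψ (Subtype.ext e.symm)),
        CT.irr_inner_of_ne CT.isIrrCharacter_one χ.2 (Ne.symm h), add_zero]
    have h := hmult χ 1 0 (fun u => by rw [hone]; simp)
    have hk0 : ∀ k : ZMod p, k ≠ 0 → C.tmult χ k = 0 := fun k hk => by
      have := h k
      rw [if_neg hk, zero_add] at this
      exact_mod_cast (mul_eq_zero.mp this).resolve_left hp0
    rw [hk0 k hk, hk0 k' hk']
    simp
  · have hχI : (χ : G → ℂ) = I j :=
      (CT.eq_of_inner_ne_zero (CT.isIrr_of_inner_self (hIchar j) (by rw [hinner j hjd, if_neg hj0])) χ.2 hne).symm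
    have h := hmult χ 1 p (fun u => by rw [hχI, hItr])
    have hk1 : ∀ k : ZMod p, k ≠ 0 → C.tmult χ k = 1 := fun k hk => by
      have := h k
      rw [if_neg hk, zero_add] at this
      exact_mod_cast mul_left_cancel₀ hp0 (this.trans (mul_one _).symm)
    have hk2 : C.tmult χ 0 = 2 := by
      have := h 0
      rw [if_pos rfl] at this
      exact_mod_cast mul_left_cancel₀ hp0 (this.trans (by ring : (p : ℂ) * 1 + p = (p : ℂ) * 2))
    rw [hk1 k hk, hk1 k' hk', hk2]
    simp

end Coords

end Cfsg.Agent.PermGp.PrimeSucc
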