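import Cfsg.Agent.Lib.PermGp.PrimeSucc.Iso
import Cfsg.Agent.Lib.PermGp.PrimeSucc.Even
import Cfsg.Agent.Lib.PermGp.PrimeSucc.Count
import Cfsg.Agent.Lib.PermGp.PrimeSucc.Special
import Cfsg.Agent.Lib.CT.Integral
import Mathlib.GroupTheory.Coset.Card

/-! Odd stabilisers of two points inverted by the involution. -/

set_option autoImplicit false
set_option linter.unusedSectionVars false

namespace Cfsg.Agent.PermGp.PrimeSucc

open MulAction Cfsg

variable {α : Type*} [Fintype α] [DecidableEq α] {G : Subgroup (Equiv.Perm α)} {i : α} {p d : ℕ}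
  [hpf : Fact p.Prime]

/-- The count: at most two classes. -/
theorem two_mul_eq_of_inversion (C : Coords G i p d) (hα : Fintype.card α = p + 1)
    (hG : Nat.card G = (p + 1) * p * d) (hodd : Odd d) (hd3 : 2 ≤ d) {w : G} (hwi : w • i = C.f 0)
    (hw0 : w • C.f 0 = i)
    (hinv : ∀ (h : G) (c : ZMod p), h • i = i → h • C.f 0 = C.f 0 → (∀ x, h • C.f x = C.f (c * x)) →
      ∀ x, (w⁻¹ * h * w) • C.f x = C.f (c⁻¹ * x)) :
    2 * d = p - 1 := by
  classical
  have := Fintype.ofFinite G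
  have hp := hpf.out
  have hd : 0 < d := by omega
  obtain ⟨ψ, hψ, hspec⟩ := C.special_rows hα hG hodd hwi hw0 hinv
  set D : Subgroup (ZMod p)ˣ := (powMonoidHom d : (ZMod p)ˣ →* (ZMod p)ˣ).ker with hD
  have hmemD : ∀ u : (ZMod p)ˣ, u ∈ D ↔ (u : ZMod p) ∈ C.dils := fun u => by
    rw [hD, MonoidHom.mem_ker, powMonoidHom_apply, C.mem_dils, ← Units.val_pow_eq_pow_val,
      Units.val_eq_one]
  have hne0 : ∀ c ∈ C.dils, c ≠ 0 := fun c hc e => by
    have := C.mem_dils.mp hc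
    rw [e, zero_pow hd.ne'] at this
    exact zero_ne_one this
  have hDcard : Nat.card D = d := by
    refine Eq.trans ?_ C.card_dils
    rw [← Fintype.card_coe C.dils, ← Nat.card_eq_fintype_card]
    exact Nat.card_congr
      { toFun := fun u => ⟨((u : (ZMod p)ˣ) : ZMod p), (hmemD _).mp u.2⟩
        invFun := fun c => ⟨Units.mk0 c.1 (hne0 c.1 c.2), (hmemD _).mpr c.2⟩
        left_inv := fun u => Subtype.ext (Units.ext rfl)
        right_inv := fun c => rfl }
  have := Fintype.ofFinite ((ZMod p)ˣ ⧸ D)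
  set t := Fintype.card ((ZMod p)ˣ ⧸ D) with ht
  have htd : t * d = p - 1 := by
    rw [← ZMod.card_units p, ← Nat.card_eq_fintype_card (α := (ZMod p)ˣ),
      Subgroup.card_eq_card_quotient_mul_card_subgroup D, hDcard, ht, Nat.card_eq_fintype_card]
  by_contra hne
  have hp2 := hp.two_le
  have ht4 : 4 ≤ t := by
    obtain ⟨m, hm⟩ := hodd
    have hpodd : p % 2 = 1 := hp.eq_two_or_odd.resolve_left fun h2 => by
      rw [h2] at htd
      rcases t with _ | t <;> simp at htd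
      omega
    rcases t with _ | _ | _ | _ | t
    · simp at htd; omega
    · omega
    · omega
    · omega
    · omega
  let v : (ZMod p)ˣ ⧸ D → IrrCharacter G → ℤ := fun q χ => C.tmult χ ((q.out : (ZMod p)ˣ) : ZMod p)
  have hcoset : ∀ (q q' : (ZMod p)ˣ ⧸ D),
      (C.dils.filter fun j => j * ((q'.out : (ZMod p)ˣ) : ZMod p) = ((q.out : (ZMod p)ˣ) : ZMod p)).card =
        if q = q' then 1 else 0 := by
    intro q q'
    split_ifs with h
    · subst h
      rw [Finset.card_eq_one]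
      refine ⟨1, ?_⟩
      ext j
      simp only [Finset.mem_filter, Finset.mem_singleton]
      exact ⟨fun hj => (mul_eq_right₀ (Units.ne_zero _)).mp hj.2,
        fun hj => by subst hj; exact ⟨C.mem_dils.mpr (one_pow d), one_mul _⟩⟩
    · rw [Finset.card_eq_zero, Finset.filter_eq_empty_iff]
      intro j hj he
      refine h ?_
      rw [← QuotientGroup.out_eq' q, ← QuotientGroup.out_eq' q']
      refine QuotientGroup.eq.mpr ((hmemD _).mpr ?_)
      have hjd := C.mem_dils.mp hj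
      rw [C.mem_dils, Units.val_mul, Units.val_inv_eq_inv_val, ← he, mul_inv, mul_assoc,
        inv_mul_cancel₀ (Units.ne_zero _), mul_one, inv_pow, hjd, inv_one]
  refine no_table hp (t := t) rfl ht4 (by omega : 2 ≤ d) (by omega) v
    (fun χ => (C.tmult χ 0 : ℤ)) (fun χ => CT.deg (χ : G → ℂ)) ψ (fun χ => CT.deg_pos χ.2) ?_ ?_ ?_ ?_ ?_ ?_ ?_
  · intro χ
    obtain ⟨m, ρ, hρ, hc⟩ := χ.2
    rw [← hc, CT.deg_eq_finrank, ← hG]
    exact CT.finrank_dvd_card ρ
  · intro q q'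
    rw [C.gram hG, hcoset]
    push_cast; rfl
  · intro q
    rw [C.gram hG, Finset.filter_eq_empty_iff.mpr fun j hj e => mul_ne_zero (hne0 j hj) (Units.ne_zero _) e]
    simp
  · intro q q'
    rw [C.gram_deg hG, C.gram_deg hG]
  · intro χ
    have h := C.sum_tmult χ
    rw [CT.deg_eq (CT.isCharacter_of_isIrr χ.2)] at h
    have h' : ∑ k : ZMod p, (C.tmult χ k : ℤ) = CT.deg (χ : G → ℂ) := by exact_mod_cast h
    rw [← h', ← Finset.add_sum_erase _ _ (Finset.mem_univ (0 : ZMod p))]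
    congr 1
    rw [Finset.mul_sum]
    have hsplit : ∑ k ∈ Finset.univ.erase (0 : ZMod p), (C.tmult χ k : ℤ) =
        ∑ u : (ZMod p)ˣ, (C.tmult χ (u : ZMod p) : ℤ) :=
      (Finset.sum_nbij (fun u : (ZMod p)ˣ => (u : ZMod p))
        (fun u _ => Finset.mem_erase.mpr ⟨u.ne_zero, Finset.mem_univ _⟩)
        (fun a _ b _ e => Units.ext e)
        (fun k hk => ⟨Units.mk0 k (Finset.mem_erase.mp hk).1, Finset.mem_univ _, rfl⟩)
        (fun u _ => rfl)).symm
    rw [hsplit, ← Fintype.sum_fiberwise (fun u : (ZMod p)ˣ => (QuotientGroup.mk u : (ZMod p)ˣ ⧸ D))]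
    refine Finset.sum_congr rfl fun q _ => ?_
    have hval : ∀ u : {u : (ZMod p)ˣ // (QuotientGroup.mk u : (ZMod p)ˣ ⧸ D) = q},
        (C.tmult χ ((u : (ZMod p)ˣ) : ZMod p) : ℤ) = v q χ := fun u => by
      have h1 : (q.out)⁻¹ * (u : (ZMod p)ˣ) ∈ D :=
        QuotientGroup.eq.mp ((QuotientGroup.out_eq' q).trans u.2.symm)
      show _ = ((C.tmult χ ((q.out : (ZMod p)ˣ) : ZMod p) : ℕ) : ℤ)
      rw [← C.tmult_mul hG ((hmemD _).mp h1) (k := ((q.out : (ZMod p)ˣ) : ZMod p)) (Units.ne_zero _),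
        ← Units.val_mul, mul_comm (q.out)⁻¹, inv_mul_cancel_right]
    rw [Finset.sum_congr rfl fun u _ => hval u, Finset.sum_const, nsmul_eq_mul, Finset.card_univ]
    congr 2
    rw [← Nat.card_eq_fintype_card, ← hDcard]
    exact Nat.card_congr
      { toFun := fun u => ⟨(q.out)⁻¹ * (u : (ZMod p)ˣ),
          QuotientGroup.eq.mp ((QuotientGroup.out_eq' q).trans u.2.symm)⟩
        invFun := fun h => ⟨q.out * (h : (ZMod p)ˣ), by
          rw [QuotientGroup.mk_mul_of_mem _ h.2, QuotientGroup.out_eq']⟩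
        left_inv := fun u => Subtype.ext (mul_inv_cancel_left _ _)
        right_inv := fun h => Subtype.ext (inv_mul_cancel_left _ _) }
  · intro χ hχ q q'
    obtain ⟨h1, h2⟩ := hspec χ (by exact_mod_cast hχ) _ _ (Units.ne_zero q.out) (Units.ne_zero q'.out)
    exact ⟨congrArg (fun n : ℕ => (n : ℤ)) h1, h2⟩
  · exact_mod_cast hψ

/-- The inversion case gives `PSL`. -/
theorem psl_of_inversion (C : Coords G i p d) (hG : Nat.card G = (p + 1) * p * d) (hd : 2 * d = p - 1)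
    (hodd : Odd d) {w : G} (hw : w * w = 1) (hwi : w • i = C.f 0) (hw0 : w • C.f 0 = i)
    (hfree : ∀ y : α, w • y ≠ y)
    (hinv : ∀ (h : G) (c : ZMod p), h • i = i → h • C.f 0 = C.f 0 → (∀ x, h • C.f x = C.f (c * x)) →
      ∀ x, (w⁻¹ * h * w) • C.f x = C.f (c⁻¹ * x)) :
    Nonempty (G ≃* Matrix.ProjectiveSpecialLinearGroup (Fin 2) (ZMod p)) := by
  obtain ⟨s, W⟩ := exists_swap C hw hwi hw0
  have hd0 : 0 < d := C.card_stab ▸ Nat.card_pos
  have hwinv : w⁻¹ = w := inv_eq_of_mul_eq_one_right hw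
  have hsc : ∀ c x : ZMod p, c ^ d = 1 → x ≠ 0 → s (c * x) = c⁻¹ * s x := fun c x hc hx => by
    obtain ⟨h, hi, h0, hh⟩ := C.exists_of_pow hc
    have hc0 : c ≠ 0 := fun e => by rw [e, zero_pow hd0.ne'] at hc; exact zero_ne_one hc
    apply C.f_inj
    rw [← hinv h c hi h0 hh, ← W.smul _ (mul_ne_zero hc0 hx), ← hh, mul_smul, mul_smul, hwinv]
    congr 2
    rw [← W.smul x hx, smul_smul, hw, one_smul]
  have hnofix : ∀ x, x ≠ 0 → s x ≠ x := fun x hx h => hfree (C.f x) (by rw [W.smul x hx, h])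
  set κ := s 1 with hκ
  have hκ0 : κ ≠ 0 := W.ne_zero 1 one_ne_zero
  have hκd : κ ^ d ≠ 1 := by
    intro h
    obtain ⟨m, hm⟩ := hodd
    refine hnofix (κ ^ (m + 1)) (pow_ne_zero _ hκ0) ?_
    have hc : (κ ^ (m + 1)) ^ d = 1 := by rw [← pow_mul, mul_comm, pow_mul, h, one_pow]
    have h2 := hsc _ 1 hc one_ne_zero
    rw [mul_one, ← hκ] at h2
    rw [h2, inv_mul_eq_iff_eq_mul₀ (pow_ne_zero _ hκ0), ← pow_add,
      show m + 1 + (m + 1) = d + 1 by omega, pow_succ, h, one_mul]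
  have hpd : ∀ x : ZMod p, x ≠ 0 → x ^ d = 1 ∨ x ^ d = -1 := fun x hx => by
    have := ZMod.pow_div_two_eq_neg_one_or_one p hx
    rwa [show p / 2 = d by omega] at this
  have hall : ∀ x : ZMod p, x ≠ 0 → s x = κ / x := by
    intro x hx
    rcases hpd x hx with h | h
    · have := hsc x 1 h one_ne_zero
      rw [mul_one] at this
      rw [this, ← hκ, div_eq_inv_mul]
    · have hy : (κ / x) ^ d = 1 := by
        rw [div_pow, (hpd κ hκ0).resolve_left hκd, h, div_self (neg_ne_zero.mpr one_ne_zero)]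
      have h2 := hsc (κ / x) 1 hy one_ne_zero
      rw [mul_one, ← hκ, inv_div, div_mul_cancel₀ _ hκ0] at h2
      have := W.s_s (x := κ / x) (div_ne_zero hκ0 hx)
      rw [h2] at this
      exact this
  refine iso_psl C hG hd hκ0 ?_ hwi hw0 (fun x hx => by rw [W.smul x hx, hall x hx]) (dil_isSquare C hd)
  rw [ZMod.euler_criterion p (neg_ne_zero.mpr hκ0), show p / 2 = d by omega, neg_pow, hodd.neg_one_pow,
    (hpd κ hκ0).resolve_left hκd, neg_one_mul, neg_neg]

end Cfsg.Agent.PermGp.PrimeSucc
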