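import Cfsg.Agent.Lib.PermGp.PrimeSucc.Setup
import Cfsg.Agent.Lib.PermGp.SharplyThreePGL
import Cfsg.Agent.Lib.LinearGroups.Basic
import Cfsg.Agent.S0265

/-! Transitive groups of degree `p + 1`: recognition of `PGL(2,p)` and `PSL(2,p)`. -/

set_option autoImplicit false
set_option linter.unusedSectionVars false

namespace Cfsg.Agent.PermGp.PrimeSucc

open MulAction Matrix
open scoped LinearAlgebra.Projectivization

variable {α : Type*} [Fintype α] [DecidableEq α] {G : Subgroup (Equiv.Perm α)} {i : α} {p d : ℕ}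
  [hpf : Fact p.Prime]

theorem natCard_SL_two (p : ℕ) [Fact p.Prime] :
    (p - 1) * Nat.card (Matrix.SpecialLinearGroup (Fin 2) (ZMod p)) = (p ^ 2 - 1) * (p ^ 2 - p) := by
  have h := LinGrp.natCard_SL_mul (F := ZMod p) 2 (by norm_num)
  rw [ZMod.card, Fin.prod_univ_two] at h
  simpa using h

theorem natCard_SL_two' (p : ℕ) [hp : Fact p.Prime] :
    Nat.card (Matrix.SpecialLinearGroup (Fin 2) (ZMod p)) = (p + 1) * p * (p - 1) := by
  have h := natCard_SL_two p
  obtain ⟨k, rfl⟩ : ∃ k, p = k + 2 := ⟨p - 2, by have := hp.out.two_le; omega⟩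
  have e1 : (k + 2) ^ 2 - 1 = (k + 1) * (k + 3) := by
    rw [Nat.sub_eq_iff_eq_add (Nat.one_le_pow _ _ (by omega))]; ring
  have e2 : (k + 2) ^ 2 - (k + 2) = (k + 2) * (k + 1) := by
    rw [Nat.sub_eq_iff_eq_add (Nat.le_self_pow (by norm_num) _)]; ring
  rw [show k + 2 - 1 = k + 1 by omega, e1, e2, mul_assoc] at h
  rw [Nat.eq_of_mul_eq_mul_left (by omega) h, show k + 2 - 1 = k + 1 by omega]
  ring

/-- The action on the coordinates as fractional linear maps. -/
theorem exists_hom (C : Coords G i p d) {w : G} {κ : ZMod p} (hκ : κ ≠ 0) (hwi : w • i = C.f 0)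
    (hw0 : w • C.f 0 = i) (hwx : ∀ x : ZMod p, x ≠ 0 → w • C.f x = C.f (κ / x))
    (P : ZMod p → Prop) (h1 : P 1) (hmul : ∀ a b, P a → P b → P (a * b)) (hinv : ∀ a, P a → P a⁻¹)
    (hκP : P (-κ))
    (hdil : ∀ g : G, g • i = i → g • C.f 0 = C.f 0 → ∀ c, (∀ x, g • C.f x = C.f (c * x)) → P c) :
    ∃ Φ : G →* Matrix.ProjGenLinGroup (Fin 2) (ZMod p), Function.Injective Φ ∧
      ∀ g, ∃ m : GL (Fin 2) (ZMod p), P m.1.det ∧ Φ g = ProjGenLinGroup.mk m := by
  classical
  let ψ : ℙ (ZMod p) (Fin 2 → ZMod p) → α :=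
    Projectivization.lift (fun v => if (v : Fin 2 → ZMod p) 1 = 0 then i else C.f ((v : Fin 2 → ZMod p) 0 / (v : Fin 2 → ZMod p) 1))
      (by
        rintro ⟨v, hv⟩ ⟨u, hu⟩ c (rfl : v = c • u)
        have hc : c ≠ 0 := fun h => hv (by rw [h, zero_smul])
        by_cases h1 : u 1 = 0
        · simp [h1]
        · simp [h1, hc, mul_div_mul_left])
  have hψmk : ∀ v hv, ψ (Projectivization.mk _ v hv) = if v 1 = 0 then i else C.f (v 0 / v 1) :=
    fun v hv => Projectivization.lift_mk _ _ _ _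
  have hψ : Function.Bijective ψ := by
    constructor
    · intro P Q h
      induction P using Projectivization.ind with | _ v hv =>
      induction Q using Projectivization.ind with | _ u hu =>
      rw [hψmk, hψmk] at h
      rw [LinGrp.mk_eq_mk_iff_crossTerm, LinGrp.crossTerm]
      by_cases h1 : v 1 = 0 <;> by_cases h2 : u 1 = 0 <;> simp only [h1, h2, if_true, if_false] at h
      · rw [h1, h2]; ring
      · exact absurd h.symm (C.f_ne _)
      · exact absurd h (C.f_ne _)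
      · have h3 := C.f_inj h
        field_simp at h3
        linear_combination h3
    · intro x
      by_cases hx : x = i
      · exact ⟨.mk _ ![1, 0] LinGrp.e1_ne, by rw [hψmk]; simp [hx]⟩
      · obtain ⟨k, rfl⟩ := C.f_surj x hx
        exact ⟨.mk _ ![k, 1] (LinGrp.diag_ne _), by rw [hψmk]; simp⟩
  let Good : G → Prop := fun g => ∃ m : GL (Fin 2) (ZMod p), P m.1.det ∧ ∀ Q, ψ (m • Q) = g • ψ Q
  have hgmul : ∀ g k, Good g → Good k → Good (g * k) := by
    rintro g k ⟨m, pm, hm⟩ ⟨n, pn, hn⟩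
    refine ⟨m * n, ?_, fun Q => by rw [mul_smul, hm, hn, mul_smul]⟩
    rw [GeneralLinearGroup.coe_mul, det_mul]
    exact hmul _ _ pm pn
  have hginv : ∀ g, Good g → Good g⁻¹ := by
    rintro g ⟨m, pm, hm⟩
    refine ⟨m⁻¹, ?_, fun Q => by rw [eq_inv_smul_iff, ← hm, smul_inv_smul]⟩
    rw [Matrix.coe_units_inv, det_nonsing_inv, Ring.inverse_eq_inv']
    exact hinv _ pm
  have hB : ∀ g : G, g • i = i → Good g := by
    intro g gi
    obtain ⟨c, b, hc, hcb⟩ := C.affine g gi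
    have hcP : P c := by
      refine hdil (C.tr (-b) * g) (by rw [mul_smul, gi, C.tr_fix]) ?_ c fun x => ?_
      · rw [mul_smul, hcb, mul_zero, zero_add, C.tr_apply, neg_add_cancel]
      · rw [mul_smul, hcb, C.tr_apply]; congr 1; ring
    refine ⟨GeneralLinearGroup.mkOfDetNeZero !![c, b; 0, 1] (by simp [hc]), ?_, fun Q => ?_⟩
    · simpa [GeneralLinearGroup.mkOfDetNeZero] using hcP
    induction Q using Projectivization.ind with | _ v hv =>
    rw [Projectivization.smul_mk, hψmk, hψmk]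
    by_cases h : v 1 = 0
    · simp [LinGrp.GL_smul_vec, GeneralLinearGroup.mkOfDetNeZero, h, gi]
    · simp [LinGrp.GL_smul_vec, GeneralLinearGroup.mkOfDetNeZero, h, hcb]
      congr 1
      field_simp
  have hw : Good w := by
    refine ⟨GeneralLinearGroup.mkOfDetNeZero !![0, κ; 1, 0] (by simp [hκ]), ?_, fun Q => ?_⟩
    · simpa [GeneralLinearGroup.mkOfDetNeZero] using hκP
    induction Q using Projectivization.ind with | _ v hv =>
    rw [Projectivization.smul_mk, hψmk, hψmk]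
    by_cases h : v 1 = 0
    · have h0 : v 0 ≠ 0 := fun h0 => hv (by ext k; fin_cases k <;> assumption)
      simp [LinGrp.GL_smul_vec, GeneralLinearGroup.mkOfDetNeZero, h, h0, hwi]
    · by_cases h0 : v 0 = 0
      · simp [LinGrp.GL_smul_vec, GeneralLinearGroup.mkOfDetNeZero, h, h0, hw0]
      · simp [LinGrp.GL_smul_vec, GeneralLinearGroup.mkOfDetNeZero, h, h0]
        rw [hwx _ (div_ne_zero h0 h)]
        congr 1
        field_simp
  have hall : ∀ g, Good g := by
    intro g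
    by_cases gi : g • i = i
    · exact hB g gi
    obtain ⟨k, hk⟩ := C.f_surj _ gi
    have h1 := hB (w * C.tr (-k) * g)
      (by rw [mul_smul, mul_smul, ← hk, C.tr_apply, neg_add_cancel, hw0])
    have h2 := hgmul _ _ (hgmul _ _ (hginv _ (hB _ (C.tr_fix (-k)))) (hginv _ hw)) h1
    rwa [show (C.tr (-k))⁻¹ * w⁻¹ * (w * C.tr (-k) * g) = g by group] at h2
  choose m hmP hm using hall
  have hmk : ∀ (x : GL (Fin 2) (ZMod p)) (Q : ℙ (ZMod p) (Fin 2 → ZMod p)),
      ProjGenLinGroup.mk x • Q = x • Q := fun _ _ => rfl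
  have huniq : ∀ (g : G) (n : GL (Fin 2) (ZMod p)), (∀ Q, ψ (n • Q) = g • ψ Q) →
      ProjGenLinGroup.mk n = ProjGenLinGroup.mk (m g) := by
    intro g n hn
    have hfix : ∀ Q : ℙ (ZMod p) (Fin 2 → ZMod p), ((m g)⁻¹ * n) • Q = Q := fun Q => by
      rw [mul_smul, inv_smul_eq_iff]
      exact hψ.1 ((hn Q).trans (hm g Q).symm)
    have h := LinGrp.PGL2_eq_one_of_fix (ProjGenLinGroup.mk ((m g)⁻¹ * n))
      (LinGrp.stdTriple _ 0) (LinGrp.stdTriple _ 1) (LinGrp.stdTriple _ 2)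
      (LinGrp.stdTriple_injective.ne (by decide)) (LinGrp.stdTriple_injective.ne (by decide))
      (LinGrp.stdTriple_injective.ne (by decide))
      ((hmk _ _).trans (hfix _)) ((hmk _ _).trans (hfix _)) ((hmk _ _).trans (hfix _))
    rw [map_mul, map_inv, inv_mul_eq_one] at h
    exact h.symm
  let Φ : G →* Matrix.ProjGenLinGroup (Fin 2) (ZMod p) := MonoidHom.mk' (fun g => ProjGenLinGroup.mk (m g))
    fun g k => by
      rw [← map_mul]
      exact (huniq (g * k) _ fun Q => by rw [mul_smul, hm, hm, mul_smul]).symm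
  refine ⟨Φ, fun g k h => perm_ext fun x => ?_, fun g => ⟨m g, hmP g, rfl⟩⟩
  obtain ⟨Q, rfl⟩ := hψ.2 x
  rw [← hm, ← hm]
  have : ProjGenLinGroup.mk (m g) • Q = ProjGenLinGroup.mk (m k) • Q := by
    rw [show ProjGenLinGroup.mk (m g) = ProjGenLinGroup.mk (m k) from h]
  exact congrArg ψ this

/-- The `PGL` case. -/
theorem iso_pgl (C : Coords G i p d) (hG : Nat.card G = (p + 1) * p * d) (hd : d = p - 1) {w : G}
    {κ : ZMod p} (hκ : κ ≠ 0) (hwi : w • i = C.f 0) (hw0 : w • C.f 0 = i)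
    (hwx : ∀ x : ZMod p, x ≠ 0 → w • C.f x = C.f (κ / x)) :
    Nonempty (G ≃* Matrix.ProjGenLinGroup (Fin 2) (ZMod p)) := by
  obtain ⟨Φ, hΦ, -⟩ := exists_hom C hκ hwi hw0 hwx (fun _ => True) trivial (fun _ _ _ _ => trivial)
    (fun _ _ => trivial) trivial (fun _ _ _ _ _ => trivial)
  have : Finite (Matrix.ProjGenLinGroup (Fin 2) (ZMod p)) :=
    Finite.of_surjective ProjGenLinGroup.mk ProjGenLinGroup.mk_surjective
  refine ⟨MulEquiv.ofBijective Φ ((Nat.bijective_iff_injective_and_card _).mpr ⟨hΦ, ?_⟩)⟩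
  rw [hG, hd, S0265.result, natCard_SL_two']

/-- The `PSL` case. -/
theorem iso_psl (C : Coords G i p d) (hG : Nat.card G = (p + 1) * p * d) (hd : 2 * d = p - 1) {w : G}
    {κ : ZMod p} (hκ : κ ≠ 0) (hκs : IsSquare (-κ)) (hwi : w • i = C.f 0) (hw0 : w • C.f 0 = i)
    (hwx : ∀ x : ZMod p, x ≠ 0 → w • C.f x = C.f (κ / x))
    (hdil : ∀ g : G, g • i = i → g • C.f 0 = C.f 0 → ∀ c, (∀ x, g • C.f x = C.f (c * x)) → IsSquare c) :
    Nonempty (G ≃* Matrix.ProjectiveSpecialLinearGroup (Fin 2) (ZMod p)) := by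
  obtain ⟨Φ, hΦ, himg⟩ := exists_hom C hκ hwi hw0 hwx IsSquare IsSquare.one
    (fun _ _ ha hb => ha.mul hb) (fun _ ha => ha.inv) hκs hdil
  have hp := hpf.out.two_le
  have : Finite (Matrix.ProjGenLinGroup (Fin 2) (ZMod p)) :=
    Finite.of_surjective ProjGenLinGroup.mk ProjGenLinGroup.mk_surjective
  have hle : Φ.range ≤ (Matrix.ProjectiveSpecialLinearGroup.toPGL :
      Matrix.ProjectiveSpecialLinearGroup (Fin 2) (ZMod p) →* _).range := by
    rintro _ ⟨g, rfl⟩
    obtain ⟨m, ⟨r, hr⟩, hm⟩ := himg g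
    have hdet : m.1.det ≠ 0 := (m.1.isUnit_iff_isUnit_det.1 m.isUnit).ne_zero
    have hr0 : r ≠ 0 := fun h => hdet (by rw [hr, h, zero_mul])
    let A : Matrix.SpecialLinearGroup (Fin 2) (ZMod p) :=
      ⟨r⁻¹ • m.1, by rw [det_smul, Fintype.card_fin, hr]; field_simp⟩
    refine ⟨(A : Matrix.ProjectiveSpecialLinearGroup (Fin 2) (ZMod p)), ?_⟩
    rw [Matrix.ProjectiveSpecialLinearGroup.toPGL_mk, hm, ProjGenLinGroup.mk_eq_mk_iff]
    refine ⟨Units.mk0 r hr0, Units.ext ?_⟩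
    simp [A, ← Matrix.mul_smul, ← Matrix.diagonal_smul, Pi.smul_def, smul_eq_mul,
      ← Matrix.smul_one_eq_diagonal, smul_smul, hr0]
    show r • (r⁻¹ • m.1) = m.1
    rw [smul_inv_smul₀ hr0]
  have hpsl : Nat.card (Matrix.ProjectiveSpecialLinearGroup (Fin 2) (ZMod p)) = (p + 1) * p * d := by
    have h := LinGrp.natCard_PSL_mul (n := Fin 2) (F := ZMod p)
    have hg : Nat.gcd 2 (p - 1) = 2 := Nat.gcd_eq_left (hd ▸ Dvd.intro d rfl)
    rw [Fintype.card_fin, Nat.card_zmod, natCard_SL_two', hg, ← hd,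
      show (p + 1) * p * (2 * d) = 2 * ((p + 1) * p * d) by ring] at h
    exact Nat.eq_of_mul_eq_mul_left (by norm_num) h
  have heq : Φ.range = (Matrix.ProjectiveSpecialLinearGroup.toPGL :
      Matrix.ProjectiveSpecialLinearGroup (Fin 2) (ZMod p) →* _).range := by
    refine Subgroup.eq_of_le_of_card_ge hle ?_
    rw [← Nat.card_congr (MonoidHom.ofInjective Matrix.ProjectiveSpecialLinearGroup.toPGL_injective).toEquiv,
      ← Nat.card_congr (MonoidHom.ofInjective hΦ).toEquiv, hpsl, hG]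
  exact ⟨(MonoidHom.ofInjective hΦ).trans ((MulEquiv.subgroupCongr heq).trans
    (MonoidHom.ofInjective Matrix.ProjectiveSpecialLinearGroup.toPGL_injective).symm)⟩

end Cfsg.Agent.PermGp.PrimeSucc
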