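import Cfsg.Agent.Lib.PermGp.PrimeSucc.Inversion
import Cfsg.Agent.Lib.PermGp.PrimeSucc.Field
import Cfsg.Agent.Lib.PermGp.SharplyTwo
import Mathlib.GroupTheory.Transfer

/-! Transitive groups of degree `p + 1` and order `(p + 1) p d` with `d < p`. -/

set_option autoImplicit false
set_option linter.unusedSectionVars false

namespace Cfsg.Agent.PermGp.PrimeSucc

open MulAction Cfsg

universe u

variable {α : Type u} [Fintype α] [DecidableEq α] {p : ℕ} [hpf : Fact p.Prime]

/-- The involutions form, with the identity, a transitive subgroup. -/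
def HasE (G : Subgroup (Equiv.Perm α)) : Prop :=
  ∃ E : Subgroup G, (∀ x, x ∈ E ↔ x * x = 1) ∧ IsPretransitive E α

theorem sq_eq_one_of_fix {G : Subgroup (Equiv.Perm α)} {i : α} {d : ℕ} (C : Coords G i p d)
    (hα : Fintype.card α = p + 1) (hG : Nat.card G = (p + 1) * p * d) (hp2 : p ≠ 2) (hodd : Odd d)
    {x : G} (hx : x * x = 1) {y : α} (hy : x • y = y) : x = 1 := by
  have := C.two_trans
  have : IsPretransitive G α := isPretransitive_of_is_two_pretransitive
  obtain ⟨g, rfl⟩ := exists_smul_eq G i y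
  set b : stabilizer G i := ⟨g⁻¹ * x * g, by rw [mem_stabilizer_iff, mul_smul, mul_smul, hy, inv_smul_smul]⟩
  have hb2 : b ^ 2 = 1 := Subtype.ext (by
    show (g⁻¹ * x * g) ^ 2 = 1
    rw [pow_two, show g⁻¹ * x * g * (g⁻¹ * x * g) = g⁻¹ * (x * x) * g by group, hx, mul_one, inv_mul_cancel])
  have h1 := orderOf_dvd_of_pow_eq_one hb2
  have h2 : orderOf b ∣ p * d := C.card_stabilizer_i hα hG ▸ orderOf_dvd_natCard b
  have hcop : Nat.Coprime 2 (p * d) :=
    Nat.coprime_two_left.mpr ((hpf.out.odd_of_ne_two hp2).mul hodd)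
  have h3 : orderOf b = 1 := Nat.eq_one_of_dvd_coprimes hcop h1 h2
  have hb : b = 1 := orderOf_eq_one_iff.mp h3
  have := congrArg Subtype.val hb
  simpa [b, mul_assoc, inv_mul_eq_one, mul_inv_eq_one, mul_eq_one_iff_eq_inv] using this

theorem hasE_of_one {G : Subgroup (Equiv.Perm α)} {i : α} (C : Coords G i p 1)
    (hα : Fintype.card α = p + 1) (hG : Nat.card G = (p + 1) * p * 1) (hp2 : p ≠ 2) : HasE G := by
  have hp := hpf.out
  have h2t := C.two_trans
  have hsharp : ∀ x : Fin 2 ↪ α, stabilizer G x = ⊥ := fun x => by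
    rw [Subgroup.eq_bot_iff_forall]
    intro g hg
    have hab : x 0 ≠ x 1 := fun h => absurd (x.injective h) (by decide)
    have ha : g • x 0 = x 0 := DFunLike.congr_fun (mem_stabilizer_iff.mp hg) 0
    have hb : g • x 1 = x 1 := DFunLike.congr_fun (mem_stabilizer_iff.mp hg) 1
    obtain ⟨k, hka, hkb⟩ := two_trans_exists C.two_trans hab (C.f_ne 0).symm
    have hmem : k * g * k⁻¹ ∈ stabilizer G i ⊓ stabilizer G (C.f 0) := Subgroup.mem_inf.mpr
      ⟨by rw [mem_stabilizer_iff, mul_smul, mul_smul, ← hka, inv_smul_smul, ha],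
       by rw [mem_stabilizer_iff, mul_smul, mul_smul, ← hkb, inv_smul_smul, hb]⟩
    have := (Subgroup.eq_bot_of_card_eq _ C.card_stab ▸ hmem : k * g * k⁻¹ ∈ (⊥ : Subgroup G))
    exact conj_eq_one_iff.mp this
  have := hp.two_le
  obtain ⟨q, j, hq, hj, hn⟩ := sharp_exists_prime_pow G hsharp (by rw [hα]; omega)
  obtain rfl : q = 2 := by
    have h : (2 : ℕ) ∣ q ^ j := by
      rw [← hn, hα]
      obtain ⟨k, hk⟩ := hp.odd_of_ne_two hp2
      omega
    exact ((Nat.prime_dvd_prime_iff_eq Nat.prime_two hq).mp (Nat.prime_two.dvd_of_dvd_pow h)).symm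
  have := Fact.mk Nat.prime_two
  obtain ⟨P⟩ : Nonempty (Sylow 2 G) := inferInstance
  obtain ⟨hnor, -, hexp, htr, -, -⟩ := sharp_structure G hsharp (by rw [hα]; omega) hj hn P
  have := hnor
  refine ⟨P, fun x => ⟨fun hx => by rw [← pow_two]; exact hexp x hx, fun hx => ?_⟩, htr⟩
  obtain ⟨Q, hQ⟩ := (show IsPGroup 2 (Subgroup.zpowers x) from fun z => ⟨1, by
    obtain ⟨k, hk⟩ := Subgroup.mem_zpowers_iff.mp z.2
    refine Subtype.ext ?_
    show (z : G) ^ (2 ^ 1) = 1
    rw [pow_one, pow_two, ← hk, ← (Commute.refl x).mul_zpow, hx, one_zpow]⟩).exists_le_sylow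
  obtain ⟨g, rfl⟩ := exists_smul_eq G P Q
  rw [Sylow.smul_eq_of_normal] at hQ
  exact hQ (Subgroup.mem_zpowers x)

/-- The core of the odd case. -/
theorem odd_core (hα : Fintype.card α = p + 1) (hp2 : p ≠ 2) : ∀ (d : ℕ) (G : Subgroup (Equiv.Perm α))
    [IsPretransitive G α], Nat.card G = (p + 1) * p * d → d < p → Odd d →
    HasE G ∨ (2 * d = p - 1 ∧ Nonempty (G ≃* Matrix.ProjectiveSpecialLinearGroup (Fin 2) (ZMod p))) := by
  intro d
  induction d using Nat.strong_induction_on with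
  | _ d IH => ?_
  intro G _ hG hd hodd
  classical
  have hp := hpf.out
  obtain ⟨i, ⟨C⟩⟩ := exists_coords hp hα G hG hd
  have hd0 : 0 < d := C.card_stab ▸ Nat.card_pos
  rcases Nat.lt_or_ge d 2 with hd1 | hd2
  · obtain rfl : d = 1 := by omega
    exact Or.inl (hasE_of_one C hα hG hp2)
  set H := stabilizer G i ⊓ stabilizer G (C.f 0) with hH
  obtain ⟨π, hπinj, hπ⟩ := C.exists_dilHom
  have hHcomm : ∀ a ∈ H, ∀ b ∈ H, a * b = b * a := fun a ha b hb => by
    have h : π (⟨a, ha⟩ * ⟨b, hb⟩) = π (⟨b, hb⟩ * ⟨a, ha⟩) := by rw [map_mul, map_mul, mul_comm]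
    exact congrArg Subtype.val (hπinj h)
  -- the involution
  obtain ⟨g, hgi, hg0⟩ := two_trans_exists C.two_trans (C.f_ne 0).symm (C.f_ne 0)
  obtain ⟨m, hm⟩ := hodd
  set w := g ^ d with hw_def
  have hg2 : g * g ∈ H := Subgroup.mem_inf.mpr
    ⟨by rw [mem_stabilizer_iff, mul_smul, hgi, hg0], by rw [mem_stabilizer_iff, mul_smul, hg0, hgi]⟩
  have hww : w * w = 1 := by
    have h := pow_card_eq_one' (x := (⟨g * g, hg2⟩ : H))
    rw [C.card_stab] at h
    have h' : (g * g) ^ d = 1 := congrArg Subtype.val h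
    rw [hw_def, ← (Commute.refl g).mul_pow, h']
  have hwi : w • i = C.f 0 := by
    have key : ∀ n, n = 2 * m + 1 → g ^ n = g * (g * g) ^ m := fun n hn => by
      rw [hn, pow_succ', pow_mul, pow_two]
    rw [hw_def, key d hm, mul_smul,
      mem_stabilizer_iff.mp (Subgroup.mem_inf.mp (Subgroup.pow_mem _ hg2 m)).1, hgi]
  have hw0 : w • C.f 0 = i := by rw [← hwi, smul_smul, hww, one_smul]
  have hwinv : w⁻¹ = w := inv_eq_of_mul_eq_one_right hww
  have hodd : Odd d := ⟨m, hm⟩
  have hwne : w ≠ 1 := fun h => C.f_ne 0 (by rw [← hwi, h, one_smul])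
  have hfree : ∀ y : α, w • y ≠ y := fun y hy => hwne (sq_eq_one_of_fix C hα hG hp2 hodd hww hy)
  have hwH : ∀ h ∈ H, w * h * w ∈ H := fun h hh => by
    obtain ⟨h1, h2⟩ := Subgroup.mem_inf.mp hh
    rw [mem_stabilizer_iff] at h1 h2
    exact Subgroup.mem_inf.mpr ⟨by rw [mem_stabilizer_iff, mul_smul, mul_smul, hwi, h2, hw0],
      by rw [mem_stabilizer_iff, mul_smul, mul_smul, hw0, h1, hwi]⟩
  by_cases hinvcase : ∀ h ∈ H, w * h * w = h⁻¹
  · -- inversion
    have hinv : ∀ (h : G) (c : ZMod p), h • i = i → h • C.f 0 = C.f 0 →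
        (∀ x, h • C.f x = C.f (c * x)) → ∀ x, (w⁻¹ * h * w) • C.f x = C.f (c⁻¹ * x) := by
      intro h c hi h0 hh x
      have hc0 : c ≠ 0 := fun e => by
        have h1 := (hh 1).trans (show C.f (c * 1) = C.f (c * 0) by rw [e, zero_mul, zero_mul])
        exact one_ne_zero (C.f_inj (MulAction.injective h (h1.trans (hh 0).symm)))
      rw [hwinv, hinvcase h (Subgroup.mem_inf.mpr ⟨hi, h0⟩), inv_smul_eq_iff, hh, mul_inv_cancel_left₀ hc0]
    have h2d := two_mul_eq_of_inversion C hα hG hodd hd2 hwi hw0 hinv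
    exact Or.inr ⟨h2d, psl_of_inversion C hG h2d hodd hww hwi hw0 hfree hinv⟩
  left
  push Not at hinvcase
  obtain ⟨h, hh, hne⟩ := hinvcase
  set h0 := h * (w * h * w) with hh0
  have hh0H : h0 ∈ H := H.mul_mem hh (hwH h hh)
  have hh0ne : h0 ≠ 1 := fun e => hne (inv_eq_of_mul_eq_one_right e).symm
  have hh0w : Commute w h0 := by
    have : w * h0 * w = h0 := by
      rw [hh0, show w * (h * (w * h * w)) * w = (w * h * w) * h * (w * w) by group, hww, mul_one]
      exact hHcomm _ (hwH h hh) _ hh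
    calc w * h0 = w * h0 * w * w := by rw [mul_assoc (w * h0), hww, mul_one]
    _ = h0 * w := by rw [this]
  obtain ⟨q, hq, hqdvd⟩ := Nat.exists_prime_and_dvd (show orderOf h0 ≠ 1 from fun e =>
    hh0ne (orderOf_eq_one_iff.mp e))
  have := Fact.mk hq
  set x : G := h0 ^ (orderOf h0 / q) with hx
  have hxo : orderOf x = q := orderOf_pow_orderOf_div (orderOf_pos h0).ne' hqdvd
  have hxH : x ∈ H := H.pow_mem hh0H _
  have hxw : w * x = x * w := (hh0w.pow_right _).eq
  have hqd : q ∣ d := by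
    rw [← C.card_stab, ← hxo, ← Subgroup.orderOf_mk x hxH]
    exact orderOf_dvd_natCard _
  have hqodd : q ≠ 2 := fun e => by
    rw [e] at hqd
    rw [hm] at hqd
    omega
  have hqp : ¬ q ∣ p := fun e => by
    rw [(Nat.prime_dvd_prime_iff_eq hq hp).mp e] at hqd
    have := Nat.le_of_dvd hd0 hqd
    omega
  have hqp1 : ¬ q ∣ p + 1 := fun e => by
    have h1 : q ∣ p - 1 := hqd.trans C.dvd_sub_one
    have h2 := Nat.dvd_sub e h1
    have : q ≤ 2 := Nat.le_of_dvd two_pos (by
      rwa [show p + 1 - (p - 1) = 2 by have := hp.two_le; omega] at h2)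
    have := hq.two_le
    omega
  obtain ⟨S⟩ : Nonempty (Sylow q H) := inferInstance
  set Q : Subgroup G := (S : Subgroup H).map H.subtype with hQ
  have hQH : Q ≤ H := Subgroup.map_subtype_le _
  have hfac : (Nat.card G).factorization q = d.factorization q := by
    rw [hG, Nat.factorization_mul (Nat.mul_ne_zero (by omega) hp.ne_zero) hd0.ne',
      Nat.factorization_mul (by omega) hp.ne_zero, Finsupp.add_apply, Finsupp.add_apply,
      Nat.factorization_eq_zero_of_not_dvd hqp, Nat.factorization_eq_zero_of_not_dvd hqp1]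
    simp
  have hQcard : Nat.card Q = q ^ d.factorization q := by
    rw [hQ, ← Nat.card_congr ((S : Subgroup H).equivMapOfInjective _ H.subtype_injective).toEquiv,
      Sylow.card_eq_multiplicity, C.card_stab]
  let P : Sylow q G := Sylow.ofCard Q (by rw [hQcard, hfac])
  have hPQ : (P : Subgroup G) = Q := rfl
  have hqroot : ∀ y ∈ H, y ^ q = 1 → ∃ k : ℕ, y = x ^ k := fun y hy hyq => by
    have hprim : IsPrimitiveRoot (π ⟨x, hxH⟩ : ZMod p) q := by
      have h1 : orderOf (π ⟨x, hxH⟩ : ZMod p) = q := by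
        rw [orderOf_units, orderOf_injective π hπinj, Subgroup.orderOf_mk, hxo]
      rw [← h1]
      exact IsPrimitiveRoot.orderOf _
    obtain ⟨k, -, hk⟩ := hprim.eq_pow_of_pow_eq_one (ξ := (π ⟨y, hy⟩ : ZMod p)) (by
      rw [← Units.val_pow_eq_pow_val, ← map_pow, show (⟨y, hy⟩ : H) ^ q = 1 from Subtype.ext hyq,
        map_one, Units.val_one])
    refine ⟨k, ?_⟩
    rw [← Units.val_pow_eq_pow_val, ← map_pow] at hk
    exact (congrArg Subtype.val (hπinj (Units.ext hk))).symm
  have hwQ : ∀ a ∈ Q, w * a = a * w := by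
    intro a ha
    by_contra hne
    set b := a⁻¹ * (w * a * w) with hb
    have hbH : b ∈ H := H.mul_mem (H.inv_mem (hQH ha)) (hwH a (hQH ha))
    have hb1 : b ≠ 1 := fun e => hne (by
      have : w * a * w = a := (inv_mul_eq_one.mp e).symm
      calc w * a = w * a * w * w := by rw [mul_assoc (w * a), hww, mul_one]
      _ = a * w := by rw [this])
    have hbw : w * b * w = b⁻¹ := by
      rw [hb, mul_inv_rev, inv_inv, show (w * a * w)⁻¹ = w * a⁻¹ * w by simp [hwinv, mul_assoc],
        show w * (a⁻¹ * (w * a * w)) * w = (w * a⁻¹ * w) * (a * (w * w)) by group, hww, mul_one]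
    set k := d.factorization q
    have haq : a ^ q ^ k = 1 := by
      have h := pow_card_eq_one' (x := (⟨a, ha⟩ : Q))
      rw [hQcard] at h
      exact congrArg Subtype.val h
    have hwaw : (w * a * w) ^ q ^ k = 1 := by
      have h : w * a * w = w * a * w⁻¹ := by rw [hwinv]
      rw [h, conj_pow, haq, mul_one, mul_inv_cancel]
    have hbq : b ^ q ^ k = 1 := by
      have hc : Commute a⁻¹ (w * a * w) := hHcomm _ (H.inv_mem (hQH ha)) _ (hwH a (hQH ha))
      rw [hb, hc.mul_pow, inv_pow, haq, hwaw, inv_one, one_mul]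
    obtain ⟨n, -, hn⟩ := (Nat.dvd_prime_pow hq).mp (orderOf_dvd_of_pow_eq_one hbq)
    rcases n with _ | n
    · exact hb1 (orderOf_eq_one_iff.mp (hn.trans (pow_zero q)))
    set y := b ^ q ^ n with hy
    have hyq : y ^ q = 1 := by rw [hy, ← pow_mul, ← pow_succ, ← hn, pow_orderOf_eq_one]
    obtain ⟨l, hl⟩ := hqroot y (H.pow_mem hbH _) hyq
    have hy1 : w * y * w = y⁻¹ := by
      have h : ∀ z : G, w * z * w = w * z * w⁻¹ := fun z => by rw [hwinv]
      rw [h, hy, ← conj_pow, ← h, hbw, inv_pow]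
    have hy2 : w * y * w = y := by
      rw [hl, ((Commute.pow_right hxw l : Commute w (x ^ l))).eq, mul_assoc, hww, mul_one]
    have hysq : y ^ 2 = 1 := by
      rw [pow_two]
      exact mul_eq_one_iff_eq_inv.mpr (hy2.symm.trans hy1)
    have hygcd : y = 1 := by
      have h := orderOf_dvd_of_pow_eq_one hysq
      have h' := orderOf_dvd_of_pow_eq_one hyq
      have hcop : Nat.Coprime 2 q := (Nat.coprime_primes Nat.prime_two hq).mpr (Ne.symm hqodd)
      exact orderOf_eq_one_iff.mp (Nat.eq_one_of_dvd_coprimes hcop h h')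
    have h' := orderOf_dvd_of_pow_eq_one (hy ▸ hygcd : b ^ q ^ n = 1)
    rw [hn, Nat.pow_dvd_pow_iff_le_right hq.one_lt] at h'
    omega
  have hxQ : ∃ a ∈ Q, a ≠ 1 := by
    by_contra! hall
    have h1 : Q = ⊥ := (Subgroup.eq_bot_iff_forall _).mpr hall
    rw [h1, Subgroup.card_bot] at hQcard
    have hpos := hq.factorization_pos_of_dvd hd0.ne' hqd
    have := Nat.one_lt_pow hpos.ne' hq.one_lt
    omega
  have hNC : Subgroup.normalizer ((P : Subgroup G) : Set G) ≤
      Subgroup.centralizer ((P : Subgroup G) : Set G) := by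
    intro n hn
    rw [hPQ, Subgroup.mem_normalizer_iff] at hn
    obtain ⟨a, haQ, ha1⟩ := hxQ
    have hpair : ∀ y : α, (y = i ∨ y = C.f 0) → (n • y = i ∨ n • y = C.f 0) := by
      intro y hy
      by_contra hcon
      rw [not_or] at hcon
      have hb : n⁻¹ * a * n ∈ Q := (hn _).mpr (by simpa [mul_assoc] using haQ)
      have hfix : ∀ c ∈ Q, c • y = y := fun c hc => by
        obtain ⟨h1, h2⟩ := Subgroup.mem_inf.mp (hQH hc)
        rcases hy with rfl | rfl
        · exact h1
        · exact h2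
      have h3 : a • (n • y) = n • y := by
        rw [show a • n • y = n • (n⁻¹ * a * n) • y by simp [smul_smul, ← mul_assoc], hfix _ hb]
      exact ha1 (C.fix_three a i (C.f 0) (n • y) (C.f_ne 0).symm (Ne.symm hcon.1) (Ne.symm hcon.2)
        (Subgroup.mem_inf.mp (hQH haQ)).1 (Subgroup.mem_inf.mp (hQH haQ)).2 h3)
    rw [Subgroup.mem_centralizer_iff]
    intro c hc
    have hcQ : c ∈ Q := hc
    have key : n ∈ H ∨ w * n ∈ H := by
      rcases hpair i (Or.inl rfl) with h1 | h1 <;> rcases hpair (C.f 0) (Or.inr rfl) with h2 | h2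
      · exact absurd (MulAction.injective n (h2.trans h1.symm)) (C.f_ne 0)
      · exact Or.inl (Subgroup.mem_inf.mpr ⟨h1, h2⟩)
      · exact Or.inr (Subgroup.mem_inf.mpr ⟨by rw [mem_stabilizer_iff, mul_smul, h1, hw0],
          by rw [mem_stabilizer_iff, mul_smul, h2, hwi]⟩)
      · exact absurd (MulAction.injective n (h2.trans h1.symm)) (C.f_ne 0)
    rcases key with h | h
    · exact hHcomm _ (hQH hcQ) _ h
    · have h1 : Commute c (w * n) := hHcomm _ (hQH hcQ) _ h
      have h2 : Commute c w := (hwQ c hcQ).symm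
      have h3 := h2.inv_right.mul_right h1
      rwa [inv_mul_cancel_left] at h3
  set N := (MonoidHom.transferSylow P hNC).ker with hN
  have hNcard : Nat.card N * Nat.card Q = Nat.card G :=
    (MonoidHom.ker_transferSylow_isComplement' P hNC).card_mul
  obtain ⟨d', hd'⟩ : q ^ d.factorization q ∣ d := Nat.ordProj_dvd d q
  have hd'0 : 0 < d' := Nat.pos_of_mul_pos_left (hd' ▸ hd0)
  have hqk : 1 < q ^ d.factorization q :=
    Nat.one_lt_pow (hq.factorization_pos_of_dvd hd0.ne' hqd).ne' hq.one_lt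
  have hd'lt : d' < d := by
    calc d' = 1 * d' := (one_mul _).symm
    _ < q ^ d.factorization q * d' := Nat.mul_lt_mul_of_pos_right hqk hd'0
    _ = d := hd'.symm
  have hN' : Nat.card N = (p + 1) * p * d' := by
    rw [hQcard, hG] at hNcard
    refine Nat.eq_of_mul_eq_mul_right (Nat.lt_trans Nat.one_pos hqk) (hNcard.trans ?_)
    rw [mul_assoc _ d', mul_comm d', ← hd']
  have hNnormal : N.Normal := MonoidHom.normal_ker _
  have : IsPreprimitive G α := isPreprimitive_of_is_two_pretransitive C.two_trans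
  have hNtr : IsPretransitive N α := normal_transitive N fun e => by
    rw [e, Subgroup.card_bot] at hN'
    have := Nat.le_mul_of_pos_right ((p + 1) * p) hd'0
    have := Nat.le_mul_of_pos_left p (show 0 < p + 1 by omega)
    have := hp.two_le
    omega
  set N' : Subgroup (Equiv.Perm α) := N.map G.subtype with hN'def
  have hN'card : Nat.card N' = (p + 1) * p * d' := by
    rw [← hN', ← Nat.card_congr (N.equivMapOfInjective _ G.subtype_injective).toEquiv]
  have : IsPretransitive N' α := ⟨fun a b => by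
    obtain ⟨⟨c, hc⟩, hcab⟩ := hNtr.exists_smul_eq a b
    exact ⟨⟨(c : Equiv.Perm α), ⟨c, hc, rfl⟩⟩, hcab⟩⟩
  have hd'odd : Odd d' := (Nat.odd_mul.mp (hd' ▸ hodd : Odd (q ^ d.factorization q * d'))).2
  rcases IH d' hd'lt N' hN'card (hd'lt.trans hd) hd'odd with ⟨E, hE, hEtr⟩ | ⟨h2, -⟩
  · -- every involution lies in `N`
    have hinvN : ∀ z : G, z * z = 1 → z ∈ N := fun z hz => by
      have hz2 : (QuotientGroup.mk z : G ⧸ N) ^ 2 = 1 := by
        rw [pow_two, ← QuotientGroup.mk_mul, hz, QuotientGroup.mk_one]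
      have h1 := orderOf_dvd_of_pow_eq_one hz2
      have h2 : orderOf (QuotientGroup.mk z : G ⧸ N) ∣ q ^ d.factorization q := by
        have hidx : Nat.card (G ⧸ N) = q ^ d.factorization q := by
          rw [← hQcard]
          refine Nat.eq_of_mul_eq_mul_right (Nat.card_pos (α := N)) ?_
          rw [← Subgroup.card_eq_card_quotient_mul_card_subgroup, ← hNcard, mul_comm]
        rw [← hidx]
        exact orderOf_dvd_natCard _
      have hcop : Nat.Coprime 2 (q ^ d.factorization q) :=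
        Nat.Coprime.pow_right _ ((Nat.coprime_primes Nat.prime_two hq).mpr (Ne.symm hqodd))
      have := orderOf_eq_one_iff.mp (Nat.eq_one_of_dvd_coprimes hcop h1 h2)
      exact (QuotientGroup.eq_one_iff z).mp this
    let ι : N' →* G := Subgroup.inclusion (Subgroup.map_subtype_le N)
    refine ⟨E.map ι, fun z => ⟨?_, fun hz => ?_⟩, ⟨fun a b => ?_⟩⟩
    · rintro ⟨e, he, rfl⟩
      rw [← map_mul, (hE e).mp he, map_one]
    · refine ⟨⟨(z : Equiv.Perm α), ⟨z, hinvN z hz, rfl⟩⟩, (hE _).mpr ?_, rfl⟩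
      exact Subtype.ext (congrArg (fun t : G => (t : Equiv.Perm α)) hz)
    · obtain ⟨⟨e, he⟩, heab⟩ := hEtr.exists_smul_eq a b
      exact ⟨⟨ι e, ⟨e, he, rfl⟩⟩, heab⟩
  · exfalso
    have h3 : 2 * d' < p - 1 := by
      have := Nat.le_of_dvd (by have := hp.two_le; omega) C.dvd_sub_one
      have hq3 : 3 ≤ q ^ d.factorization q := by
        have := hq.two_le
        have := Nat.le_self_pow (hq.factorization_pos_of_dvd hd0.ne' hqd).ne' q
        omega
      have := Nat.mul_le_mul_right d' hq3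
      rw [← hd'] at this
      omega
    omega

/-- The classification. -/
theorem transitive_prime_succ (hα : Fintype.card α = p + 1) {d : ℕ} (G : Subgroup (Equiv.Perm α))
    [IsPretransitive G α] (hG : Nat.card G = (p + 1) * p * d) (hd : d < p) :
    (d = p - 1 ∧ Nonempty (G ≃* Matrix.ProjGenLinGroup (Fin 2) (ZMod p))) ∨
      (2 * d = p - 1 ∧ Nonempty (G ≃* Matrix.ProjectiveSpecialLinearGroup (Fin 2) (ZMod p))) ∨
      (∃ q : ℕ, q.Prime ∧ p + 1 = 2 ^ q ∧ (d = 1 ∨ d = q) ∧ ∃ e : α ≃ GaloisField 2 q,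
        ∀ g : G, (e.symm.trans (((g : Equiv.Perm α)).trans e)) ∈ Cfsg.semiaffineGroup (GaloisField 2 q)) := by
  have hp := hpf.out
  obtain ⟨i, ⟨C⟩⟩ := exists_coords hp hα G hG hd
  have hd0 : 0 < d := C.card_stab ▸ Nat.card_pos
  rcases Nat.even_or_odd d with heven | hodd
  · rcases even_case C hα hG heven with h | h
    · exact Or.inl h
    · exact Or.inr (Or.inl h)
  by_cases hp2 : p = 2
  · subst hp2
    obtain rfl : d = 1 := by omega
    have htop : G = ⊤ := by
      refine Subgroup.eq_top_of_card_eq G ?_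
      rw [hG, Nat.card_perm, Nat.card_eq_fintype_card, hα]
      decide
    refine Or.inl ⟨rfl, iso_pgl C hG rfl (w := ⟨Equiv.swap i (C.f 0), (Subgroup.eq_top_iff' G).mp htop _⟩)
      one_ne_zero (Equiv.swap_apply_left _ _) (Equiv.swap_apply_right _ _) fun x hx => ?_⟩
    have hx1 : x = 1 := Fin.eq_one_of_ne_zero x hx
    subst hx1
    rw [one_div, inv_one]
    exact Equiv.swap_apply_of_ne_of_ne (C.f_ne 1) (fun e => one_ne_zero (C.f_inj e))
  rcases odd_core hα hp2 d G hG hd hodd with ⟨E, hE, hEtr⟩ | h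
  · refine Or.inr (Or.inr ?_)
    have : E.Normal := ⟨fun e he g => (hE _).mpr (by
      rw [show g * e * g⁻¹ * (g * e * g⁻¹) = g * (e * e) * g⁻¹ by group, (hE e).mp he, mul_one,
        mul_inv_cancel])⟩
    refine field_case C hα E (fun x hx => (hE x).mp hx) (fun x => ?_) (fun e he hei => ?_)
    · obtain ⟨⟨e, he⟩, hex⟩ := hEtr.exists_smul_eq i x
      exact ⟨e, he, hex⟩
    · exact sq_eq_one_of_fix C hα hG hp2 hodd ((hE e).mp he) hei
  · exact Or.inr (Or.inl h)

end Cfsg.Agent.PermGp.PrimeSucc
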