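import Cfsg.Agent.Lib.PermGp.SharplyThree
import Mathlib.FieldTheory.Finite.Basic

/-! Transitive groups of degree `p + 1` with small point stabilisers: coordinates. -/

set_option autoImplicit false
set_option linter.unusedSectionVars false

namespace Cfsg.Agent.PermGp.PrimeSucc

open MulAction

variable {α : Type*} [Fintype α] [DecidableEq α]

/-- Coordinates: the points other than `i` are a copy of `ZMod p`, on which the translations `tr`
act additively and every element fixing `i` acts affinely. -/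
structure Coords (G : Subgroup (Equiv.Perm α)) (i : α) (p d : ℕ) where
  f : ZMod p → α
  tr : ZMod p → G
  f_inj : Function.Injective f
  f_ne : ∀ k, f k ≠ i
  f_surj : ∀ x, x ≠ i → ∃ k, f k = x
  tr_add : ∀ k l, tr (k + l) = tr k * tr l
  tr_fix : ∀ k, tr k • i = i
  tr_apply : ∀ k x, tr k • f x = f (k + x)
  affine : ∀ g : G, g • i = i → ∃ c b : ZMod p, c ≠ 0 ∧ ∀ x, g • f x = f (c * x + b)
  card_stab : Nat.card ↥(stabilizer G i ⊓ stabilizer G (f 0)) = d
  two_trans : IsMultiplyPretransitive G α 2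

theorem exists_coords {p d : ℕ} (hp : p.Prime) (hα : Fintype.card α = p + 1)
    (G : Subgroup (Equiv.Perm α)) [IsPretransitive G α] (hG : Nat.card G = (p + 1) * p * d)
    (hd : d < p) : ∃ i : α, Nonempty (Coords G i p d) := by
  classical
  have := Fact.mk hp
  obtain ⟨τ, hτ⟩ := exists_prime_orderOf_dvd_card' (G := G) p (by rw [hG]; exact Dvd.intro (((p + 1)) * d) (by ring))
  set σ : Equiv.Perm α := (τ : Equiv.Perm α) with hσ
  have hσo : orderOf σ = p := (Subgroup.orderOf_coe τ).trans hτ
  have hσ1 : σ ≠ 1 := fun h => by rw [h, orderOf_one] at hσo; exact hp.one_lt.ne hσo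
  have hcyc : σ.IsCycle := by
    refine Equiv.Perm.isCycle_of_prime_order (by rw [hσo]; exact hp) ?_
    rw [hσo]
    calc σ.support.card ≤ Fintype.card α := Finset.card_le_univ _
    _ < 2 * p := by rw [hα]; have := hp.two_le; omega
  have hsupp : σ.support.card = p := hcyc.orderOf.symm.trans hσo
  obtain ⟨i, hi⟩ : ∃ i, i ∉ σ.support := by
    by_contra! hall
    have := Finset.eq_univ_iff_forall.mpr hall
    rw [this, Finset.card_univ, hα] at hsupp
    omega
  have hτi : τ • i = i := Equiv.Perm.notMem_support.mp hi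
  have honly : ∀ x, x ≠ i → x ∈ σ.support := by
    intro x hx
    by_contra hns
    have hsub : σ.support ⊆ ({i, x} : Finset α)ᶜ := fun y hy => by
      simp only [Finset.mem_compl, Finset.mem_insert, Finset.mem_singleton, not_or]
      exact ⟨fun e => hi (e ▸ hy), fun e => hns (e ▸ hy)⟩
    have := Finset.card_le_card hsub
    rw [Finset.card_compl, Finset.card_pair hx.symm, hα, hsupp] at this
    omega
  obtain ⟨o, ho⟩ : σ.support.Nonempty := Finset.card_pos.mp (by rw [hsupp]; exact hp.pos)
  have hoi : o ≠ i := fun e => hi (e ▸ ho)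
  let tr : ZMod p → G := fun k => τ ^ k.val
  have hpow : ∀ m n : ℕ, m ≡ n [MOD p] → τ ^ m = τ ^ n := fun m n h => by
    rw [pow_eq_pow_iff_modEq, hτ]; exact h
  have tr_add : ∀ k l, tr (k + l) = tr k * tr l := fun k l => by
    show τ ^ (k + l).val = τ ^ k.val * τ ^ l.val
    rw [← pow_add]
    refine hpow _ _ ?_
    rw [← ZMod.natCast_eq_natCast_iff]
    push_cast
    simp [ZMod.natCast_zmod_val]
  have tr_fix : ∀ k, tr k • i = i := fun k => by
    show τ ^ k.val • i = i
    induction k.val with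
    | zero => exact one_smul _ _
    | succ n ih => rw [pow_succ, mul_smul, hτi, ih]
  have tr0 : tr 0 = 1 := by
    show τ ^ (0 : ZMod p).val = 1
    rw [ZMod.val_zero, pow_zero]
  let f : ZMod p → α := fun k => tr k • o
  have f_ne : ∀ k, f k ≠ i := fun k h => hoi (MulAction.injective (tr k) (h.trans (tr_fix k).symm))
  have f_surj : ∀ x, x ≠ i → ∃ k, f k = x := by
    intro x hx
    obtain ⟨n, hn⟩ := hcyc.exists_zpow_eq (Equiv.Perm.mem_support.mp ho) (Equiv.Perm.mem_support.mp (honly x hx))
    refine ⟨(n : ZMod p), ?_⟩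
    show τ ^ (n : ZMod p).val • o = x
    have : τ ^ ((n : ZMod p).val : ℤ) = τ ^ n := by
      rw [zpow_eq_zpow_iff_modEq, hτ, ← ZMod.intCast_eq_intCast_iff]
      push_cast
      rw [ZMod.natCast_zmod_val]
    rw [← zpow_natCast, this, ← hn]
    show ((τ ^ n : G) : Equiv.Perm α) o = (σ ^ n) o
    rw [Subgroup.coe_zpow]
  have f_inj : Function.Injective f := by
    have hs : Function.Surjective (fun k : ZMod p => (⟨f k, f_ne k⟩ : {x : α // x ≠ i})) := fun x => by
      obtain ⟨k, hk⟩ := f_surj x x.2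
      exact ⟨k, Subtype.ext hk⟩
    have hcard : Fintype.card (ZMod p) = Fintype.card {x : α // x ≠ i} := by
      rw [ZMod.card, Fintype.card_subtype_compl, Fintype.card_subtype_eq, hα, Nat.add_sub_cancel]
    have hb := (Fintype.bijective_iff_surjective_and_card _).mpr ⟨hs, hcard⟩
    intro a b h
    exact hb.1 (Subtype.ext h)
  have tr_apply : ∀ k x, tr k • f x = f (k + x) := fun k x => by
    show tr k • tr x • o = tr (k + x) • o
    rw [tr_add, mul_smul]
  have h2t : IsMultiplyPretransitive G α 2 := by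
    rw [is_two_pretransitive_iff]
    intro a b c e hab hce
    obtain ⟨g, hg⟩ := exists_smul_eq G a i
    obtain ⟨k, hk⟩ := exists_smul_eq G c i
    have hgb : g • b ≠ i := fun h => hab (MulAction.injective g (hg.trans h.symm))
    have hke : k • e ≠ i := fun h => hce (MulAction.injective k (hk.trans h.symm))
    obtain ⟨u, hu⟩ := f_surj _ hgb
    obtain ⟨v, hv⟩ := f_surj _ hke
    refine ⟨k⁻¹ * tr (v - u) * g, ?_, ?_⟩
    · rw [mul_smul, mul_smul, hg, tr_fix, inv_smul_eq_iff, hk]
    · rw [mul_smul, mul_smul, ← hu, tr_apply, sub_add_cancel, hv, inv_smul_smul]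
  have hB : Nat.card (stabilizer G i) = p * d := by
    have := card_mul_card_stabilizer (G := G) i
    rw [hG, Nat.card_eq_fintype_card (α := α), hα, mul_assoc] at this
    exact Nat.eq_of_mul_eq_mul_left (by omega) this
  have hH : Nat.card ↥(stabilizer G i ⊓ stabilizer G o) = d := by
    have ht : ∀ x : {x : α // x ≠ i}, ∃ b : stabilizer G i, (b : G) • o = (x : α) := fun x => by
      obtain ⟨k, hk⟩ := f_surj x x.2
      exact ⟨⟨tr k, tr_fix k⟩, hk⟩
    choose b hb using ht
    let e : stabilizer G i ≃ {x : α // x ≠ i} × ↥(stabilizer G i ⊓ stabilizer G o) :=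
      { toFun := fun g =>
          (⟨(g : G) • o, fun h => hoi (MulAction.injective (g : G) (h.trans g.2.symm))⟩,
           ⟨((b ⟨(g : G) • o, fun h => hoi (MulAction.injective (g : G) (h.trans g.2.symm))⟩ : G))⁻¹ * g,
            Subgroup.mem_inf.mpr ⟨(stabilizer G i).mul_mem ((stabilizer G i).inv_mem (b _).2) g.2, by
              rw [mem_stabilizer_iff, mul_smul, inv_smul_eq_iff, hb]⟩⟩)
        invFun := fun x => ⟨(b x.1 : G) * x.2, (stabilizer G i).mul_mem (b _).2 (Subgroup.mem_inf.mp x.2.2).1⟩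
        left_inv := fun g => Subtype.ext (by simp [mul_inv_cancel_left])
        right_inv := fun x => by
          have h1 : ((b x.1 : G) * x.2) • o = x.1 := by
            rw [mul_smul, mem_stabilizer_iff.mp (Subgroup.mem_inf.mp x.2.2).2, hb]
          ext
          · exact h1
          · simp only [h1, Subtype.coe_eta, inv_mul_cancel_left] }
    have hc := Nat.card_congr e
    rw [hB, Nat.card_prod, Nat.card_eq_fintype_card (α := {x : α // x ≠ i}), Fintype.card_subtype_compl,
      Fintype.card_subtype_eq, hα, Nat.add_sub_cancel] at hc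
    exact (Nat.eq_of_mul_eq_mul_left hp.pos hc).symm
  -- the translations are the unique subgroup of order `p` of the stabiliser
  have hnormal : ∀ g : G, g • i = i → g * τ * g⁻¹ ∈ Subgroup.zpowers τ := by
    intro g hg
    set B := stabilizer G i
    set τ' : B := ⟨τ, hτi⟩ with hτ'
    have hτ'o : orderOf τ' = p := by rw [← Subgroup.orderOf_coe]; exact hτ
    have hfac : (Nat.card B).factorization p = 1 := by
      rw [hB, Nat.factorization_mul hp.ne_zero (by
        intro h0; rw [h0, mul_zero] at hG; exact absurd hG Nat.card_pos.ne'),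
        Finsupp.add_apply, hp.factorization_self,
        Nat.factorization_eq_zero_of_not_dvd fun h => ?_]
      rcases Nat.eq_zero_or_pos d with h0 | h0
      · rw [h0, mul_zero] at hG; exact absurd hG Nat.card_pos.ne'
      · exact absurd (Nat.le_of_dvd h0 h) (not_le.mpr hd)
    let P : Sylow p B := Sylow.ofCard (Subgroup.zpowers τ') (by rw [Nat.card_zpowers, hτ'o, hfac, pow_one])
    have h1 : Nat.card (Sylow p B) = 1 := by
      have hdvd := P.card_dvd_index
      have hidx : (P : Subgroup B).index = d := by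
        have := (P : Subgroup B).card_mul_index
        rw [hB, show Nat.card (P : Subgroup B) = p by
          rw [show (P : Subgroup B) = Subgroup.zpowers τ' from rfl, Nat.card_zpowers, hτ'o]] at this
        exact Nat.eq_of_mul_eq_mul_left hp.pos this
      rw [hidx] at hdvd
      have hmod := card_sylow_modEq_one p B
      have hpos : 0 < Nat.card (Sylow p B) := Nat.card_pos
      have hle : Nat.card (Sylow p B) ≤ d := by
        rcases Nat.eq_zero_or_pos d with h0 | h0
        · rw [h0, mul_zero] at hG; exact absurd hG Nat.card_pos.ne'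
        · exact Nat.le_of_dvd h0 hdvd
      have := Nat.ModEq.eq_of_lt_of_lt hmod (by omega) hp.one_lt
      exact this
    have : Subsingleton (Sylow p B) := (Nat.card_eq_one_iff_unique.mp h1).1
    have hmem := Subsingleton.elim ((⟨g, hg⟩ : B) • P) P
    have h2 : MulAut.conj (⟨g, hg⟩ : B) τ' ∈ (((⟨g, hg⟩ : B) • P : Sylow p B) : Subgroup B) := by
      rw [Sylow.coe_subgroup_smul]
      exact Subgroup.smul_mem_pointwise_smul _ _ _ (Subgroup.mem_zpowers τ')
    rw [hmem] at h2
    obtain ⟨n, hn⟩ := Subgroup.mem_zpowers_iff.mp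
      (show MulAut.conj (⟨g, hg⟩ : B) τ' ∈ Subgroup.zpowers τ' from h2)
    exact Subgroup.mem_zpowers_iff.mpr ⟨n, by simpa using congrArg Subtype.val hn⟩
  refine ⟨i, ⟨⟨f, tr, f_inj, f_ne, f_surj, tr_add, tr_fix, tr_apply, ?_, ?_, h2t⟩⟩⟩
  · intro g hg
    obtain ⟨n, hn⟩ := Subgroup.mem_zpowers_iff.mp (hnormal g hg)
    have hgo : g • o ≠ i := fun h => hoi (MulAction.injective g (h.trans hg.symm))
    obtain ⟨b, hb⟩ := f_surj _ hgo
    have hconj : ∀ m : ℕ, g * τ ^ m * g⁻¹ = τ ^ (n * m) := fun m => by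
      rw [← conj_pow, ← hn, ← zpow_natCast, ← zpow_mul]
    have htr : ∀ x : ZMod p, g * tr x * g⁻¹ = tr ((n : ZMod p) * x) := fun x => by
      show g * τ ^ x.val * g⁻¹ = τ ^ ((n : ZMod p) * x).val
      rw [hconj, ← zpow_natCast τ, zpow_eq_zpow_iff_modEq, hτ, ← ZMod.intCast_eq_intCast_iff]
      push_cast
      simp [ZMod.natCast_zmod_val]
    refine ⟨(n : ZMod p), b, fun h0 => ?_, fun x => ?_⟩
    · have h1 := htr 1
      rw [h0, zero_mul, tr0] at h1
      have : tr 1 = 1 := by
        have := congrArg (fun z => g⁻¹ * z * g) h1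
        simpa [mul_assoc] using this
      have h2 : f 1 = f 0 := by show tr 1 • o = tr 0 • o; rw [this, tr0]
      exact one_ne_zero (f_inj h2)
    · calc g • f x = (g * tr x * g⁻¹) • g • o := by rw [mul_smul, mul_smul, inv_smul_smul]
      _ = f ((n : ZMod p) * x + b) := by rw [htr, ← hb, tr_apply]
  · show Nat.card ↥(stabilizer G i ⊓ stabilizer G (tr 0 • o)) = d
    rw [tr0, one_smul]
    exact hH

namespace Coords

variable {G : Subgroup (Equiv.Perm α)} {i : α} {p d : ℕ} [Fact p.Prime] (C : Coords G i p d)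

theorem tr_zero : C.tr 0 = 1 := by
  have h := C.tr_add 0 0
  rw [add_zero] at h
  exact mul_eq_left.mp h.symm

theorem exists_dil {g : G} (hi : g • i = i) (h0 : g • C.f 0 = C.f 0) :
    ∃ c : ZMod p, c ≠ 0 ∧ ∀ x, g • C.f x = C.f (c * x) := by
  obtain ⟨c, b, hc, hcb⟩ := C.affine g hi
  have := hcb 0
  rw [h0, mul_zero, zero_add] at this
  exact ⟨c, hc, fun x => by rw [hcb, ← C.f_inj this, add_zero]⟩

theorem ext' {g h : G} (hi : g • i = h • i) (hf : ∀ x, g • C.f x = h • C.f x) : g = h := by
  refine perm_ext fun y => ?_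
  by_cases hy : y = i
  · rw [hy, hi]
  · obtain ⟨x, rfl⟩ := C.f_surj y hy
    exact hf x

include C in
/-- Only the identity fixes three points. -/
theorem fix_three (g : G) (a b c : α) (hab : a ≠ b) (hac : a ≠ c) (hbc : b ≠ c)
    (ha : g • a = a) (hb : g • b = b) (hc : g • c = c) : g = 1 := by
  obtain ⟨k, hka, hkb⟩ := two_trans_exists C.two_trans hab (C.f_ne 0).symm
  set g' := k * g * k⁻¹ with hg'
  have h1 : g' • i = i := by rw [hg', mul_smul, mul_smul, ← hka, inv_smul_smul, ha]
  have h2 : g' • C.f 0 = C.f 0 := by rw [hg', mul_smul, mul_smul, ← hkb, inv_smul_smul, hb]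
  obtain ⟨j, hj, hjx⟩ := C.exists_dil h1 h2
  have hkc : k • c ≠ i := fun h => hac (MulAction.injective k (hka.trans h.symm))
  obtain ⟨x, hx⟩ := C.f_surj _ hkc
  have hx0 : x ≠ 0 := fun h => hbc (MulAction.injective k (by show k • b = k • c; rw [hkb, ← hx, h]))
  have h3 : g' • C.f x = C.f x := by rw [hg', hx, mul_smul, mul_smul, inv_smul_smul, hc]
  rw [hjx] at h3
  have hj1 : j = 1 := by
    have := C.f_inj h3
    exact (mul_eq_right₀ hx0).mp this
  have hone : g' = 1 := C.ext' (by rw [h1, one_smul]) fun y => by rw [hjx, hj1, one_mul, one_smul]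
  rwa [hg', conj_eq_one_iff] at hone

include C in
/-- The hypothesis of the Zassenhaus lemmas. -/
theorem fix_three' : ∀ g : G, ∀ a b c : α, a ≠ b → b ≠ c → a ≠ c → g • a = a → g • b = b →
    g • c = c → g = 1 := fun g a b c h1 h2 h3 ha hb hc => C.fix_three g a b c h1 h3 h2 ha hb hc

/-- The dilations form a character of the two point stabiliser. -/
theorem exists_dilHom : ∃ π : ↥(stabilizer G i ⊓ stabilizer G (C.f 0)) →* (ZMod p)ˣ,
    Function.Injective π ∧ ∀ (h : ↥(stabilizer G i ⊓ stabilizer G (C.f 0))) (x : ZMod p), (h : G) • C.f x = C.f ((π h : ZMod p) * x) := by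
  choose c hc0 hc using fun h : ↥(stabilizer G i ⊓ stabilizer G (C.f 0)) =>
    C.exists_dil (g := (h : G)) (Subgroup.mem_inf.mp h.2).1 (Subgroup.mem_inf.mp h.2).2
  refine ⟨MonoidHom.mk' (fun h => Units.mk0 (c h) (hc0 h)) (fun g h => Units.ext ?_), fun g h e => ?_,
    fun h x => hc h x⟩
  · apply C.f_inj
    show C.f (c (g * h)) = C.f (c g * c h)
    have h1 := hc (g * h) 1
    rw [Subgroup.coe_mul, mul_smul, hc h, hc g, mul_one, mul_one] at h1
    exact h1.symm
  · have e' : c g = c h := congrArg Units.val e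
    exact Subtype.ext (C.ext'
      ((Subgroup.mem_inf.mp g.2).1.trans (Subgroup.mem_inf.mp h.2).1.symm)
      fun x => by rw [hc, hc, e'])

theorem dvd_sub_one (C : Coords G i p d) : d ∣ p - 1 := by
  obtain ⟨π, hπ, -⟩ := C.exists_dilHom
  have h := Subgroup.card_dvd_of_injective π hπ
  rwa [C.card_stab, Nat.card_eq_fintype_card, ZMod.card_units] at h

theorem dil_pow {g : G} (hi : g • i = i) (h0 : g • C.f 0 = C.f 0) {c : ZMod p}
    (hg : ∀ x, g • C.f x = C.f (c * x)) : c ^ d = 1 := by
  obtain ⟨π, -, hπ⟩ := C.exists_dilHom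
  let h : ↥(stabilizer G i ⊓ stabilizer G (C.f 0)) := ⟨g, Subgroup.mem_inf.mpr ⟨hi, h0⟩⟩
  have h1 : (π h : ZMod p) = c := by
    have := (hg 1).symm.trans (hπ h 1)
    rw [mul_one, mul_one] at this
    exact (C.f_inj this).symm
  have hh : h ^ d = 1 := by
    have := pow_card_eq_one' (x := h)
    rwa [C.card_stab] at this
  rw [← h1, ← Units.val_pow_eq_pow_val, ← map_pow, hh, map_one, Units.val_one]

theorem exists_of_pow {c : ZMod p} (hc : c ^ d = 1) :
    ∃ g : G, g • i = i ∧ g • C.f 0 = C.f 0 ∧ ∀ x, g • C.f x = C.f (c * x) := by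
  classical
  obtain ⟨π, hinj, hπ⟩ := C.exists_dilHom
  have hd : 0 < d := C.card_stab ▸ Nat.card_pos
  have := Fintype.ofFinite ↥(stabilizer G i ⊓ stabilizer G (C.f 0))
  let img : Finset (ZMod p) := Finset.univ.image
    fun h : ↥(stabilizer G i ⊓ stabilizer G (C.f 0)) => (π h : ZMod p)
  have himg : img.card = d := by
    rw [Finset.card_image_of_injective _ fun a b e => hinj (Units.ext e), Finset.card_univ,
      ← Nat.card_eq_fintype_card]
    exact C.card_stab
  have hsub : img ⊆ (Polynomial.nthRoots d (1 : ZMod p)).toFinset := fun x hx => by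
    obtain ⟨h, -, rfl⟩ := Finset.mem_image.mp hx
    rw [Multiset.mem_toFinset, Polynomial.mem_nthRoots hd]
    exact C.dil_pow (Subgroup.mem_inf.mp h.2).1 (Subgroup.mem_inf.mp h.2).2 (hπ h)
  have heq := Finset.eq_of_subset_of_card_le hsub
    (by rw [himg]; exact (Multiset.toFinset_card_le _).trans (Polynomial.card_nthRoots d 1))
  have hmem : c ∈ img := by rw [heq, Multiset.mem_toFinset, Polynomial.mem_nthRoots hd]; exact hc
  obtain ⟨h, -, rfl⟩ := Finset.mem_image.mp hmem
  exact ⟨h, (Subgroup.mem_inf.mp h.2).1, (Subgroup.mem_inf.mp h.2).2, hπ h⟩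

end Coords

end Cfsg.Agent.PermGp.PrimeSucc
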